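import Cfsg.Agent.H771.KTools_m3
import Cfsg.Agent.H868.KSL2
import Cfsg.Agent.H915.GNDefs_m3
import Cfsg.Agent.ChevalleyStructure.FieldIso
import Cfsg.Agent.FastGrp
import Cfsg.Agent.Prune
set_option linter.all false

section
prune_inst 0x7ffffdfffffdbfffdfff7e7ffefdfffffff87fffffdffdcbfff8e5ff0fdf5b8eebc5fbaf8feb53ff1ed6e29410f87bd3ffffffffea6ffc7ffffdfff45ffbffcffdf7bd0851bf9cb40fbc0fff63f07f8e7f3fffffffffffffffffffffffffffbeffffffffffff

-- part: H92/ExcCount
section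
prune_inst 0x200000240002000000001000000000680000000023000071a00b020a071143800407004a800a1011c6b2a05040400000000159001000002000320040030020802b52040234ad0436000980b806000000000000000000000000000000041000000000000
set_option linter.all false
open scoped Cfsg.Agent.FastGrp

/-!
# `k(G) ≥ 12` for `E₆`, `E₇`, `E₈`, `F₄` (`q ≥ 4`)
-/

set_option autoImplicit false

namespace Cfsg.Agent.H92.ExcCount

open Cfsg Cfsg.Lie Cfsg.Agent.H92.KTools Cfsg.Agent.H92.ExcSL2 Cfsg.Agent.H436 Cfsg.Agent.OrdDiv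
  Cfsg.Agent.ChevalleyStructure Cfsg.Agent.ChevalleyStructure.Elts Cfsg.Agent.ChevalleyStructure.SL2Hom

universe u

/-- prime orders and composite orders. -/
theorem classes_ge {G : Type u} [Group G] [Finite G] {q m : ℕ} (hq : 2 ≤ q) (h1 : q * (q ^ 2 - 1) ∣ Nat.card G)
    (E : Finset ℕ) (hE : ∀ e ∈ E, 3 ≤ e ∧ ¬ (q = 2 ∧ e = 6)) (hd : ∀ e ∈ E, ∀ r, Prim q e r → r ∣ Nat.card G)
    (C : Finset ℕ) (hC : ∀ n ∈ C, HasOrd G n ∧ ¬ n.Prime ∧ n ≠ 1)
    (hm : m ≤ (q * (q ^ 2 - 1)).primeFactors.card + E.card + C.card + 1) : m ≤ Nat.card (ConjClasses G) := by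
  classical
  have h2 := card_add_le hq Nat.card_pos.ne' h1 E hE hd
  have h3 : ∀ n ∈ insert 1 ((Nat.card G).primeFactors ∪ C), HasOrd G n := by
    intro n hn
    rw [Finset.mem_insert, Finset.mem_union] at hn
    rcases hn with rfl | hn | hn
    · exact hasOrd_one G
    · exact hasOrd_prime (Nat.prime_of_mem_primeFactors hn) (Nat.dvd_of_mem_primeFactors hn)
    · exact (hC n hn).1
  refine le_trans ?_ (orders_le _ h3)
  rw [Finset.card_insert_of_notMem, Finset.card_union_of_disjoint]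
  · omega
  · rw [Finset.disjoint_left]
    intro n hn hn'
    exact (hC n hn').2.1 (Nat.prime_of_mem_primeFactors hn)
  · rw [Finset.mem_union, not_or]
    exact ⟨fun h => Nat.not_prime_one (Nat.prime_of_mem_primeFactors h), fun h => (hC 1 h).2.2 rfl⟩

theorem e7 {q : ℕ} {G : Type u} [Group G] [Finite G] (hg : Cond (.e7 q))
    (he : den (.e7 q) * Nat.card G = num (.e7 q)) : 12 ≤ Nat.card (ConjClasses G) := by
  have hq2 : 2 ≤ q := (show IsPrimePow q from hg).two_le
  have h1 : Nat.gcd 2 (q - 1) * Nat.card G =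
    q ^ 63 * ((q ^ 2 - 1) * (q ^ 6 - 1) * (q ^ 8 - 1) * (q ^ 10 - 1) * (q ^ 12 - 1) *
      (q ^ 14 - 1) * (q ^ 18 - 1)) := he
  have hm : q * (q ^ 2 - 1) ∣ Nat.card G := mq_dvd (B := q ^ 6 - 1) h1 (Nat.gcd_pos_of_pos_left _ (by norm_num))
    (dvd_pow_self q (by norm_num)) ⟨(q ^ 8 - 1) * (q ^ 10 - 1) * (q ^ 12 - 1) * (q ^ 14 - 1) * (q ^ 18 - 1), by ring⟩
    ((Nat.gcd_dvd_right _ _).trans (sub_dvd_pow_sub q 6))
  have d8 : q ^ 8 - 1 ∣ q ^ 63 * ((q ^ 2 - 1) * (q ^ 6 - 1) * (q ^ 8 - 1) * (q ^ 10 - 1) * (q ^ 12 - 1) *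
      (q ^ 14 - 1) * (q ^ 18 - 1)) := ⟨q ^ 63 * ((q ^ 2 - 1) * (q ^ 6 - 1) * (q ^ 10 - 1) * (q ^ 12 - 1) *
      (q ^ 14 - 1) * (q ^ 18 - 1)), by ring⟩
  have d10 : q ^ 10 - 1 ∣ q ^ 63 * ((q ^ 2 - 1) * (q ^ 6 - 1) * (q ^ 8 - 1) * (q ^ 10 - 1) * (q ^ 12 - 1) *
      (q ^ 14 - 1) * (q ^ 18 - 1)) := ⟨q ^ 63 * ((q ^ 2 - 1) * (q ^ 6 - 1) * (q ^ 8 - 1) * (q ^ 12 - 1) *
      (q ^ 14 - 1) * (q ^ 18 - 1)), by ring⟩
  have d12 : q ^ 12 - 1 ∣ q ^ 63 * ((q ^ 2 - 1) * (q ^ 6 - 1) * (q ^ 8 - 1) * (q ^ 10 - 1) * (q ^ 12 - 1) *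
      (q ^ 14 - 1) * (q ^ 18 - 1)) := ⟨q ^ 63 * ((q ^ 2 - 1) * (q ^ 6 - 1) * (q ^ 8 - 1) * (q ^ 10 - 1) *
      (q ^ 14 - 1) * (q ^ 18 - 1)), by ring⟩
  have d14 : q ^ 14 - 1 ∣ q ^ 63 * ((q ^ 2 - 1) * (q ^ 6 - 1) * (q ^ 8 - 1) * (q ^ 10 - 1) * (q ^ 12 - 1) *
      (q ^ 14 - 1) * (q ^ 18 - 1)) := ⟨q ^ 63 * ((q ^ 2 - 1) * (q ^ 6 - 1) * (q ^ 8 - 1) * (q ^ 10 - 1) *
      (q ^ 12 - 1) * (q ^ 18 - 1)), by ring⟩
  have d18 : q ^ 18 - 1 ∣ q ^ 63 * ((q ^ 2 - 1) * (q ^ 6 - 1) * (q ^ 8 - 1) * (q ^ 10 - 1) * (q ^ 12 - 1) *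
      (q ^ 14 - 1) * (q ^ 18 - 1)) := ⟨q ^ 63 * ((q ^ 2 - 1) * (q ^ 6 - 1) * (q ^ 8 - 1) * (q ^ 10 - 1) *
      (q ^ 12 - 1) * (q ^ 14 - 1)), by ring⟩
  have key : ∀ e r n, 3 ≤ e → e ∣ n → q ^ n - 1 ∣ q ^ 63 * ((q ^ 2 - 1) * (q ^ 6 - 1) * (q ^ 8 - 1) *
      (q ^ 10 - 1) * (q ^ 12 - 1) * (q ^ 14 - 1) * (q ^ 18 - 1)) → Prim q e r → r ∣ Nat.card G :=
    fun e r n h3 hen hd hr => hr.dvd_of_eq h1 ((hr.dvd hen).trans hd) (hr.not_dvd_gcd_sub h3)
  have h2 := two_le_card hq2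
  refine classes_ge hq2 hm {3, 4, 5, 7, 8, 9, 10, 12, 14, 18} (by simp only [_root_.Finset.mem_insert, _root_.Finset.mem_singleton, _root_.not_and, _root_.forall_eq_or_imp, _root_.Std.le_refl, _root_.Nat.reduceEqDiff, _root_.not_false_eq_true, _root_.implies_true, _root_.and_self, _root_.Nat.reduceLeDiff, _root_.Nat.succ_ne_self, _root_.forall_eq]) ?_ ∅ (by simp)
    (by rw [show ({3, 4, 5, 7, 8, 9, 10, 12, 14, 18} : Finset ℕ).card = 10 by decide]; omega)
  simp only [Finset.mem_insert, Finset.mem_singleton, forall_eq_or_imp, forall_eq]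
  exact ⟨fun r => key 3 r 12 (by norm_num) (by norm_num) d12, fun r => key 4 r 12 (by norm_num) (by norm_num) d12,
    fun r => key 5 r 10 (by norm_num) (by norm_num) d10, fun r => key 7 r 14 (by norm_num) (by norm_num) d14,
    fun r => key 8 r 8 (by norm_num) (by norm_num) d8, fun r => key 9 r 18 (by norm_num) (by norm_num) d18,
    fun r => key 10 r 10 (by norm_num) (by norm_num) d10, fun r => key 12 r 12 (by norm_num) (by norm_num) d12,
    fun r => key 14 r 14 (by norm_num) (by norm_num) d14, fun r => key 18 r 18 (by norm_num) (by norm_num) d18⟩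

theorem e8 {q : ℕ} {G : Type u} [Group G] [Finite G] (hg : Cond (.e8 q))
    (he : den (.e8 q) * Nat.card G = num (.e8 q)) : 12 ≤ Nat.card (ConjClasses G) := by
  have hq2 : 2 ≤ q := (show IsPrimePow q from hg).two_le
  have h1 : 1 * Nat.card G =
    q ^ 120 * ((q ^ 2 - 1) * (q ^ 8 - 1) * (q ^ 12 - 1) * (q ^ 14 - 1) * (q ^ 18 - 1) *
      (q ^ 20 - 1) * (q ^ 24 - 1) * (q ^ 30 - 1)) := he
  have hm : q * (q ^ 2 - 1) ∣ Nat.card G := mq_dvd (B := 1) h1 one_pos
    (dvd_pow_self q (by norm_num)) ⟨(q ^ 8 - 1) * (q ^ 12 - 1) * (q ^ 14 - 1) * (q ^ 18 - 1) * (q ^ 20 - 1) *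
      (q ^ 24 - 1) * (q ^ 30 - 1), by ring⟩ dvd_rfl
  rw [one_mul] at h1
  have d14 : q ^ 14 - 1 ∣ Nat.card G := by
    rw [h1]; exact ⟨q ^ 120 * ((q ^ 2 - 1) * (q ^ 8 - 1) * (q ^ 12 - 1) * (q ^ 18 - 1) *
      (q ^ 20 - 1) * (q ^ 24 - 1) * (q ^ 30 - 1)), by ring⟩
  have d18 : q ^ 18 - 1 ∣ Nat.card G := by
    rw [h1]; exact ⟨q ^ 120 * ((q ^ 2 - 1) * (q ^ 8 - 1) * (q ^ 12 - 1) * (q ^ 14 - 1) *
      (q ^ 20 - 1) * (q ^ 24 - 1) * (q ^ 30 - 1)), by ring⟩
  have d20 : q ^ 20 - 1 ∣ Nat.card G := by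
    rw [h1]; exact ⟨q ^ 120 * ((q ^ 2 - 1) * (q ^ 8 - 1) * (q ^ 12 - 1) * (q ^ 14 - 1) * (q ^ 18 - 1) *
      (q ^ 24 - 1) * (q ^ 30 - 1)), by ring⟩
  have d24 : q ^ 24 - 1 ∣ Nat.card G := by
    rw [h1]; exact ⟨q ^ 120 * ((q ^ 2 - 1) * (q ^ 8 - 1) * (q ^ 12 - 1) * (q ^ 14 - 1) * (q ^ 18 - 1) *
      (q ^ 20 - 1) * (q ^ 30 - 1)), by ring⟩
  have d30 : q ^ 30 - 1 ∣ Nat.card G := by
    rw [h1]; exact ⟨q ^ 120 * ((q ^ 2 - 1) * (q ^ 8 - 1) * (q ^ 12 - 1) * (q ^ 14 - 1) * (q ^ 18 - 1) *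
      (q ^ 20 - 1) * (q ^ 24 - 1)), by ring⟩
  have key : ∀ e r n, e ∣ n → q ^ n - 1 ∣ Nat.card G → Prim q e r → r ∣ Nat.card G :=
    fun e r n hen hd hr => (hr.dvd hen).trans hd
  have h2 := two_le_card hq2
  refine classes_ge hq2 hm {3, 4, 5, 7, 8, 9, 10, 12, 14, 18} (by simp only [_root_.Finset.mem_insert, _root_.Finset.mem_singleton, _root_.not_and, _root_.forall_eq_or_imp, _root_.Std.le_refl, _root_.Nat.reduceEqDiff, _root_.not_false_eq_true, _root_.implies_true, _root_.and_self, _root_.Nat.reduceLeDiff, _root_.Nat.succ_ne_self, _root_.forall_eq]) ?_ ∅ (by simp)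
    (by rw [show ({3, 4, 5, 7, 8, 9, 10, 12, 14, 18} : Finset ℕ).card = 10 by decide]; omega)
  simp only [Finset.mem_insert, Finset.mem_singleton, forall_eq_or_imp, forall_eq]
  exact ⟨fun r => key 3 r 18 (by norm_num) d18, fun r => key 4 r 24 (by norm_num) d24,
    fun r => key 5 r 20 (by norm_num) d20, fun r => key 7 r 14 (by norm_num) d14,
    fun r => key 8 r 24 (by norm_num) d24, fun r => key 9 r 18 (by norm_num) d18,
    fun r => key 10 r 20 (by norm_num) d20, fun r => key 12 r 24 (by norm_num) d24,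
    fun r => key 14 r 14 (by norm_num) d14, fun r => key 18 r 18 (by norm_num) d18⟩

theorem e6 {q : ℕ} {G : Type u} [Group G] [Finite G] (hg : Cond (.e6 q))
    (he : den (.e6 q) * Nat.card G = num (.e6 q)) {F : Type} [Field F] [Finite F] (e : G ≃* chevE6.group F) :
    12 ≤ Nat.card (ConjClasses G) := by
  have hq2 : 2 ≤ q := (show IsPrimePow q from hg).two_le
  have h1 : Nat.gcd 3 (q - 1) * Nat.card G =
    q ^ 36 * ((q ^ 2 - 1) * (q ^ 5 - 1) * (q ^ 6 - 1) * (q ^ 8 - 1) * (q ^ 9 - 1) * (q ^ 12 - 1)) := he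
  have hm : q * (q ^ 2 - 1) ∣ Nat.card G := mq_dvd (B := q ^ 5 - 1) h1 (Nat.gcd_pos_of_pos_left _ (by norm_num))
    (dvd_pow_self q (by norm_num)) ⟨(q ^ 6 - 1) * (q ^ 8 - 1) * (q ^ 9 - 1) * (q ^ 12 - 1), by ring⟩
    ((Nat.gcd_dvd_right _ _).trans (sub_dvd_pow_sub q 5))
  have d5 : q ^ 5 - 1 ∣ q ^ 36 * ((q ^ 2 - 1) * (q ^ 5 - 1) * (q ^ 6 - 1) * (q ^ 8 - 1) * (q ^ 9 - 1) *
    (q ^ 12 - 1)) := ⟨q ^ 36 * ((q ^ 2 - 1) * (q ^ 6 - 1) * (q ^ 8 - 1) * (q ^ 9 - 1) * (q ^ 12 - 1)), by ring⟩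
  have d8 : q ^ 8 - 1 ∣ q ^ 36 * ((q ^ 2 - 1) * (q ^ 5 - 1) * (q ^ 6 - 1) * (q ^ 8 - 1) * (q ^ 9 - 1) *
    (q ^ 12 - 1)) := ⟨q ^ 36 * ((q ^ 2 - 1) * (q ^ 5 - 1) * (q ^ 6 - 1) * (q ^ 9 - 1) * (q ^ 12 - 1)), by ring⟩
  have d9 : q ^ 9 - 1 ∣ q ^ 36 * ((q ^ 2 - 1) * (q ^ 5 - 1) * (q ^ 6 - 1) * (q ^ 8 - 1) * (q ^ 9 - 1) *
    (q ^ 12 - 1)) := ⟨q ^ 36 * ((q ^ 2 - 1) * (q ^ 5 - 1) * (q ^ 6 - 1) * (q ^ 8 - 1) * (q ^ 12 - 1)), by ring⟩
  have d12 : q ^ 12 - 1 ∣ q ^ 36 * ((q ^ 2 - 1) * (q ^ 5 - 1) * (q ^ 6 - 1) * (q ^ 8 - 1) * (q ^ 9 - 1) *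
    (q ^ 12 - 1)) := ⟨q ^ 36 * ((q ^ 2 - 1) * (q ^ 5 - 1) * (q ^ 6 - 1) * (q ^ 8 - 1) * (q ^ 9 - 1)), by ring⟩
  have key : ∀ e r n, 3 ≤ e → e ∣ n → q ^ n - 1 ∣ q ^ 36 * ((q ^ 2 - 1) * (q ^ 5 - 1) * (q ^ 6 - 1) *
      (q ^ 8 - 1) * (q ^ 9 - 1) * (q ^ 12 - 1)) → Prim q e r → r ∣ Nat.card G :=
    fun e r n h3 hen hd hr => hr.dvd_of_eq h1 ((hr.dvd hen).trans hd) (hr.not_dvd_gcd_sub h3)
  have h2 := two_le_card hq2
  obtain ⟨C, hC3, hC⟩ := ExcOrd.three_ords (X := chevE6.group F) (F := F)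
    (fun p hp hc h => ExcOrd.e6_odd (F := F) p h) (fun h => ExcOrd.e6_two h)
  refine classes_ge hq2 hm {3, 4, 5, 8, 9, 12} (by simp only [_root_.Finset.mem_insert, _root_.Finset.mem_singleton, _root_.not_and, _root_.forall_eq_or_imp, _root_.Std.le_refl, _root_.Nat.reduceEqDiff, _root_.not_false_eq_true, _root_.implies_true, _root_.and_self, _root_.Nat.reduceLeDiff, _root_.forall_eq]) ?_ C
    (fun n hn => ⟨(hC n hn).1.of_equiv e.symm, (hC n hn).2⟩)
    (by rw [show ({3, 4, 5, 8, 9, 12} : Finset ℕ).card = 6 by decide, hC3]; omega)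
  simp only [Finset.mem_insert, Finset.mem_singleton, forall_eq_or_imp, forall_eq]
  exact ⟨fun r => key 3 r 12 (by norm_num) (by norm_num) d12, fun r => key 4 r 12 (by norm_num) (by norm_num) d12,
    fun r => key 5 r 5 (by norm_num) (by norm_num) d5, fun r => key 8 r 8 (by norm_num) (by norm_num) d8,
    fun r => key 9 r 9 (by norm_num) (by norm_num) d9, fun r => key 12 r 12 (by norm_num) (by norm_num) d12⟩

theorem f4 {q : ℕ} {G : Type u} [Group G] [Finite G] (hg : Cond (.f4 q)) (h4 : 4 ≤ q)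
    (he : den (.f4 q) * Nat.card G = num (.f4 q)) {F : Type} [Field F] [Finite F] (e : G ≃* chevF4.group F) :
    12 ≤ Nat.card (ConjClasses G) := by
  have hq2 : 2 ≤ q := (show IsPrimePow q from hg).two_le
  have h1 : 1 * Nat.card G = q ^ 24 * ((q ^ 2 - 1) * (q ^ 6 - 1) * (q ^ 8 - 1) * (q ^ 12 - 1)) := he
  have hm : q * (q ^ 2 - 1) ∣ Nat.card G := mq_dvd (B := 1) h1 one_pos (dvd_pow_self q (by norm_num))
    (by rw [mul_one]; exact ⟨(q ^ 6 - 1) * (q ^ 8 - 1) * (q ^ 12 - 1), by ring⟩) dvd_rfl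
  rw [one_mul] at h1
  have d8 : q ^ 8 - 1 ∣ Nat.card G := by
    rw [h1]; exact ⟨q ^ 24 * ((q ^ 2 - 1) * (q ^ 6 - 1) * (q ^ 12 - 1)), by ring⟩
  have d12 : q ^ 12 - 1 ∣ Nat.card G := by
    rw [h1]; exact ⟨q ^ 24 * ((q ^ 2 - 1) * (q ^ 6 - 1) * (q ^ 8 - 1)), by ring⟩
  have key : ∀ e r n, e ∣ n → q ^ n - 1 ∣ Nat.card G → Prim q e r → r ∣ Nat.card G :=
    fun e r n hen hd hr => (hr.dvd hen).trans hd
  have h2 := three_le_card (show IsPrimePow q from hg) h4
  obtain ⟨C, hC3, hC⟩ := ExcOrd.three_ords (X := chevF4.group F) (F := F)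
    (fun p hp hc h => ExcOrd.f4_odd (F := F) p h) (fun h => ExcOrd.f4_two h)
  refine classes_ge hq2 hm {3, 4, 6, 8, 12} (by simp only [_root_.Finset.mem_insert, _root_.Finset.mem_singleton, _root_.not_and, _root_.forall_eq_or_imp, _root_.Std.le_refl, _root_.Nat.reduceEqDiff, _root_.not_false_eq_true, _root_.implies_true, _root_.and_self, _root_.Nat.reduceLeDiff, _root_.not_true_eq_false, _root_.imp_false, _root_.true_and, _root_.forall_eq, _root_.and_true]; omega) ?_ C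
    (fun n hn => ⟨(hC n hn).1.of_equiv e.symm, (hC n hn).2⟩)
    (by rw [show ({3, 4, 6, 8, 12} : Finset ℕ).card = 5 by decide, hC3]; omega)
  simp only [Finset.mem_insert, Finset.mem_singleton, forall_eq_or_imp, forall_eq]
  exact ⟨fun r => key 3 r 12 (by norm_num) d12, fun r => key 4 r 12 (by norm_num) d12,
    fun r => key 6 r 12 (by norm_num) d12, fun r => key 8 r 8 (by norm_num) d8,
    fun r => key 12 r 12 (by norm_num) d12⟩

end Cfsg.Agent.H92.ExcCount
end

-- part: H92/ExcG2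
section
prune_inst 0x240000000000000000000000300000000020000060a0010208010142800001000a00000010c4a2800000000000000040000000000000000000020000002802040000a000020000000000000000000000000000000000000000000000000000000
set_option linter.all false
open scoped Cfsg.Agent.FastGrp

/-!
# `k(G) ≥ 12` for `G₂(q)`, `q ≥ 5`
-/

set_option autoImplicit false

namespace Cfsg.Agent.H92.ExcG2

open Cfsg Cfsg.Lie Cfsg.Agent.H92.KTools Cfsg.Agent.H92.ExcSL2 Cfsg.Agent.H92.ExcOrd Cfsg.Agent.H92.ExcCount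
  Cfsg.Agent.H436 Cfsg.Agent.OrdDiv
  Cfsg.Agent.ChevalleyStructure Cfsg.Agent.ChevalleyStructure.Elts Cfsg.Agent.ChevalleyStructure.SL2Hom

universe u v

variable {F : Type v} [Field F]

/-- orders of the products of elements of the two commuting `SL₂`'s of `G₂` -/
theorem g2_mul {a b : ℕ} {x y : SL2 F} (hx : orderOf x = a) (hy : orderOf y = b) (hb : Odd b)
    (hab : a.Coprime b) : HasOrd (chevG2.group F) (a * b) := by
  have hD : InList chevG2 := by simp
  have h1 : orderOf (ph (F := F) hD (r := 7) (by decide) x) = a := by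
    rw [orderOf_injective (ph (F := F) hD (r := 7) (by decide)) ?_, hx]
    exact ph_injective hD (i := 0) (s := 6) (by decide) (by decide) (by decide) (by decide)
  have h2 : orderOf (ph (F := F) hD (r := 11) (by decide) y) = b := by
    rw [orderOf_ph hD _ _ (by rw [hy]; exact hb), hy]
  exact HasOrd.mul_of_commute h1 h2 (ph_commute hD _ _ (by decide) _ _) hab

theorem two_ne_zero_of {p : ℕ} [hp : Fact p.Prime] [CharP F p] (h2 : p ≠ 2) : (2 : F) ≠ 0 := by
  intro h
  have h3 : ((2 : ℕ) : F) = 0 := by exact_mod_cast h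
  rw [CharP.cast_eq_zero_iff F p] at h3
  exact h2 ((Nat.prime_dvd_prime_iff_eq hp.out Nat.prime_two).1 h3)

theorem dvd_card (p : ℕ) [Fact p.Prime] [CharP F p] [Finite F] {q : ℕ} (hF : Nat.card F = q) : p ∣ q := by
  have : Fintype F := Fintype.ofFinite F
  obtain ⟨n, -, hn⟩ := FiniteField.card F p
  rw [← hF, Nat.card_eq_fintype_card, hn]
  exact dvd_pow_self p n.pos.ne'

theorem g2_four (hF : (2 : F) = 0) : HasOrd (chevG2.group F) 4 := by
  have hD : InList chevG2 := by simp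
  refine ⟨⟨xG hD 6 1 * xG hD 10 1, Subgroup.mul_mem _ (xG_mem_group hD _ _) (xG_mem_group hD _ _)⟩, ?_⟩
  rw [← coe_orderOf]
  exact orderOf_four hD (r := 6) (s := 10) (k := 11) (by decide) (by decide) (by decide) (by decide) (by decide)
    (c := 1) (by decide) (by decide) (by decide) hF

/-- three primes -/
theorem exists_s {q : ℕ} (hq : IsPrimePow q) (h4 : 4 ≤ q) {p : ℕ} (hp : p.Prime) (hpq : p ∣ q) (hp3 : p = 2 ∨ p = 3) :
    ∃ s, s.Prime ∧ 5 ≤ s ∧ s ∣ q ^ 2 - 1 := by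
  by_contra hno
  push Not at hno
  have h3 := three_le_card hq h4
  have h5 : (q * (q ^ 2 - 1)).primeFactors ⊆ {2, 3} := by
    intro s hs
    have hsp := Nat.prime_of_mem_primeFactors hs
    have hsd := Nat.dvd_of_mem_primeFactors hs
    rw [Finset.mem_insert, Finset.mem_singleton]
    rcases hsp.dvd_mul.1 hsd with h | h
    · obtain ⟨l, k, hl, hk, rfl⟩ := (isPrimePow_nat_iff _).1 hq
      have h6 : s = l := (Nat.prime_dvd_prime_iff_eq hsp hl).1 (hsp.dvd_of_dvd_pow h)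
      have h7 : p = l := (Nat.prime_dvd_prime_iff_eq hp hl).1 (hp.dvd_of_dvd_pow hpq)
      omega
    · by_contra hne
      have h6 := hsp.two_le
      rcases Nat.lt_or_ge s 5 with h7 | h7
      · have : s = 4 := by omega
        subst this
        exact absurd hsp (by decide)
      · exact hno s hsp h7 h
  have := Finset.card_le_card h5
  rw [Finset.card_pair (by norm_num)] at this
  omega

/-- the common part -/
theorem g2_row {q : ℕ} {G : Type u} [Group G] [Finite G] (hg : Cond (.g2 q))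
    (he : den (.g2 q) * Nat.card G = num (.g2 q)) {C : Finset ℕ}
    (hC : ∀ n ∈ C, HasOrd G n ∧ ¬ n.Prime ∧ n ≠ 1)
    (hm : 9 ≤ (q * (q ^ 2 - 1)).primeFactors.card + C.card) : 12 ≤ Nat.card (ConjClasses G) := by
  obtain ⟨hq3, hq⟩ := hg
  have hq2 := hq.two_le
  have h1 : 1 * Nat.card G = q ^ 6 * ((q ^ 2 - 1) * (q ^ 6 - 1)) := he
  have hmm : q * (q ^ 2 - 1) ∣ Nat.card G := mq_dvd (B := 1) h1 one_pos (dvd_pow_self q (by norm_num))
    (by rw [mul_one]; exact Dvd.intro _ rfl) dvd_rfl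
  have p : ∀ e r, e ∣ 6 → Prim q e r → r ∣ Nat.card G := fun e r h hr => by
    rw [one_mul] at h1; rw [h1]
    exact ((hr.dvd h).mul_left _).mul_left _
  refine classes_ge hq2 hmm {3, 6} (by simp only [_root_.Finset.mem_insert, _root_.Finset.mem_singleton, _root_.not_and, _root_.forall_eq_or_imp, _root_.Std.le_refl, _root_.Nat.reduceEqDiff, _root_.not_false_eq_true, _root_.implies_true, _root_.and_self, _root_.forall_eq, _root_.Nat.reduceLeDiff, _root_.not_true_eq_false, _root_.imp_false, _root_.true_and]; omega) ?_ C hC (by rw [Finset.card_pair (by norm_num)]; omega)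
  simp only [Finset.mem_insert, Finset.mem_singleton, forall_eq_or_imp, forall_eq]
  exact ⟨fun r hr => p 3 r (by norm_num) hr, fun r hr => p 6 r (by norm_num) hr⟩

theorem card_six {a b c d e f : ℕ} (h : [a, b, c, d, e, f].Nodup) : ({a, b, c, d, e, f} : Finset ℕ).card = 6 := by
  have := List.toFinset_card_of_nodup h
  simpa only [_root_.List.toFinset_cons, _root_.List.toFinset_nil, _root_.LawfulSingleton.insert_empty_eq, _root_.List.length_cons, _root_.List.length_nil, _root_.zero_add, _root_.Nat.reduceAdd] using this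

theorem g2_ge_five {q : ℕ} {G : Type u} [Group G] [Finite G] (hg : Cond (.g2 q))
    (he : den (.g2 q) * Nat.card G = num (.g2 q)) [Finite F] (hF : Nat.card F = q) (e : G ≃* chevG2.group F)
    (p : ℕ) [hp : Fact p.Prime] [CharP F p] (h5 : 5 ≤ p) : 12 ≤ Nat.card (ConjClasses G) := by
  have h2 : (2 : F) ≠ 0 := two_ne_zero_of (p := p) (by omega)
  have h43 : HasOrd (chevG2.group F) (4 * 3) := g2_mul (orderOf_wel h2) orderOf_thr (by decide) (by decide)
  have hodd : Odd p := hp.out.odd_of_ne_two (by omega)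
  have c4 : Nat.Coprime 4 p := by
    rw [show 4 = 2 ^ 2 by norm_num]
    exact Nat.Coprime.pow_left 2 ((Nat.coprime_primes Nat.prime_two hp.out).2 (by omega))
  have h4p : HasOrd (chevG2.group F) (4 * p) := g2_mul (orderOf_wel h2) (orderOf_up p) hodd c4
  have h3p : HasOrd (chevG2.group F) (3 * p) := g2_mul orderOf_thr (orderOf_up p) hodd
    ((Nat.coprime_primes Nat.prime_three hp.out).2 (by omega))
  have hnp : ∀ k, 2 ≤ k → ¬ (k * p).Prime := fun k hk => Nat.not_prime_mul (by omega) hp.out.ne_one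
  have key : ∀ n, HasOrd (chevG2.group F) n → HasOrd G n := fun n h => h.of_equiv e.symm
  refine g2_row hg he (C := {4, 6, 12, 2 * p, 3 * p, 4 * p}) ?_ ?_
  · simp only [Finset.mem_insert, Finset.mem_singleton, forall_eq_or_imp, forall_eq]
    refine ⟨⟨key _ (h43.of_dvd (by norm_num) (by norm_num)), by decide, by decide⟩,
      ⟨key _ (h43.of_dvd (by norm_num) (by norm_num)), by decide, by decide⟩,
      ⟨key _ h43, by decide, by decide⟩,
      ⟨key _ (h4p.of_dvd ⟨2, by ring⟩ (by omega)), hnp 2 le_rfl, by omega⟩,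
      ⟨key _ h3p, hnp 3 (by norm_num), by omega⟩, ⟨key _ h4p, hnp 4 (by norm_num), by omega⟩⟩
  · obtain ⟨m, hm⟩ := hodd
    rw [card_six (by simp only [List.nodup_cons, List.mem_cons, List.not_mem_nil, or_false, not_or, not_false_eq_true, List.nodup_nil, and_true]; omega)]
    have := hg.1
    have := three_le_card hg.2 (by
      have h6 : p ∣ q := dvd_card p hF
      have := Nat.le_of_dvd (by omega) h6
      omega)
    omega

theorem g2_three {q : ℕ} {G : Type u} [Group G] [Finite G] (hg : Cond (.g2 q)) (h9 : 9 ≤ q)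
    (he : den (.g2 q) * Nat.card G = num (.g2 q)) [Finite F] (hF : Nat.card F = q) (e : G ≃* chevG2.group F)
    [CharP F 3] : 12 ≤ Nat.card (ConjClasses G) := by
  have : Fact (Nat.Prime 3) := ⟨Nat.prime_three⟩
  have h2 : (2 : F) ≠ 0 := two_ne_zero_of (p := 3) (by norm_num)
  obtain ⟨s, hs, hs5, hsd⟩ := exists_s hg.2 (by omega) Nat.prime_three (dvd_card 3 hF) (Or.inr rfl)
  obtain ⟨x, hx⟩ := exists_orderOf_prime (F := F) hs (by rw [hF]; exact hsd)
  have hsodd : Odd s := hs.odd_of_ne_two (by omega)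
  have h43 : HasOrd (chevG2.group F) (4 * 3) := g2_mul (orderOf_wel h2) orderOf_thr (by decide) (by decide)
  have c4 : Nat.Coprime 4 s := by
    rw [show 4 = 2 ^ 2 by norm_num]
    exact Nat.Coprime.pow_left 2 ((Nat.coprime_primes Nat.prime_two hs).2 (by omega))
  have h4s : HasOrd (chevG2.group F) (4 * s) := g2_mul (orderOf_wel h2) hx hsodd c4
  have h3s : HasOrd (chevG2.group F) (3 * s) := g2_mul orderOf_thr hx hsodd
    ((Nat.coprime_primes Nat.prime_three hs).2 (by omega))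
  have hnp : ∀ k, 2 ≤ k → ¬ (k * s).Prime := fun k hk => Nat.not_prime_mul (by omega) hs.ne_one
  have key : ∀ n, HasOrd (chevG2.group F) n → HasOrd G n := fun n h => h.of_equiv e.symm
  refine g2_row hg he (C := {4, 6, 12, 2 * s, 3 * s, 4 * s}) ?_ ?_
  · simp only [Finset.mem_insert, Finset.mem_singleton, forall_eq_or_imp, forall_eq]
    refine ⟨⟨key _ (h43.of_dvd (by norm_num) (by norm_num)), by decide, by decide⟩,
      ⟨key _ (h43.of_dvd (by norm_num) (by norm_num)), by decide, by decide⟩,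
      ⟨key _ h43, by decide, by decide⟩,
      ⟨key _ (h4s.of_dvd ⟨2, by ring⟩ (by omega)), hnp 2 le_rfl, by omega⟩,
      ⟨key _ h3s, hnp 3 (by norm_num), by omega⟩, ⟨key _ h4s, hnp 4 (by norm_num), by omega⟩⟩
  · obtain ⟨m, hm⟩ := hsodd
    rw [card_six (by simp only [List.nodup_cons, List.mem_cons, List.not_mem_nil, or_false, not_or, not_false_eq_true, List.nodup_nil, and_true]; (clear * - hs5 hm; omega))]
    have := three_le_card hg.2 (by omega)
    omega

theorem two_eq_zero [CharP F 2] : (2 : F) = 0 := by exact_mod_cast CharP.cast_eq_zero F 2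

/-- orders `4, 6, 2s, 3s` in characteristic two -/
theorem g2_two_ords [CharP F 2] {s : ℕ} (hs : s.Prime) (hs5 : 5 ≤ s) {x : SL2 F} (hx : orderOf x = s) :
    HasOrd (chevG2.group F) 4 ∧ HasOrd (chevG2.group F) 6 ∧ HasOrd (chevG2.group F) (2 * s) ∧
      HasOrd (chevG2.group F) (3 * s) := by
  have : Fact (Nat.Prime 2) := ⟨Nat.prime_two⟩
  have hsodd : Odd s := hs.odd_of_ne_two (by omega)
  exact ⟨g2_four two_eq_zero, g2_mul (orderOf_up 2) orderOf_thr (by decide) (by decide),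
    g2_mul (orderOf_up 2) hx hsodd ((Nat.coprime_primes Nat.prime_two hs).2 (by omega)),
    g2_mul orderOf_thr hx hsodd ((Nat.coprime_primes Nat.prime_three hs).2 (by omega))⟩

theorem g2_two {q : ℕ} {G : Type u} [Group G] [Finite G] (hg : Cond (.g2 q)) (h16 : 16 ≤ q)
    (he : den (.g2 q) * Nat.card G = num (.g2 q)) [Finite F] (hF : Nat.card F = q) (e : G ≃* chevG2.group F)
    [CharP F 2] : 12 ≤ Nat.card (ConjClasses G) := by
  have : Fact (Nat.Prime 2) := ⟨Nat.prime_two⟩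
  obtain ⟨s, hs, hs5, hsd⟩ := exists_s hg.2 (by omega) Nat.prime_two (dvd_card 2 hF) (Or.inl rfl)
  obtain ⟨x, hx⟩ := exists_orderOf_prime (F := F) hs (by rw [hF]; exact hsd)
  obtain ⟨h4, h6, h2s, h3s⟩ := g2_two_ords hs hs5 hx
  have hnp : ∀ k, 2 ≤ k → ¬ (k * s).Prime := fun k hk => Nat.not_prime_mul (by omega) hs.ne_one
  have key : ∀ n, HasOrd (chevG2.group F) n → HasOrd G n := fun n h => h.of_equiv e.symm
  -- a second prime `s' ≥ 5`
  have h17 : q ≠ 17 := by
    rintro rfl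
    have h7 := dvd_card (F := F) 2 hF
    norm_num at h7
  have h4c : 4 ≤ (q * (q ^ 2 - 1)).primeFactors.card := by
    by_contra hlt
    rcases lTwo_three hg.2 (by omega) with h | h | h | h | h | h | h | h <;> omega
  obtain ⟨s', hs', hs'5, hs's, hs'd⟩ : ∃ s', s'.Prime ∧ 5 ≤ s' ∧ s' ≠ s ∧ s' ∣ q ^ 2 - 1 := by
    by_contra hno
    push Not at hno
    have h5 : (q * (q ^ 2 - 1)).primeFactors ⊆ {2, 3, s} := by
      intro t ht
      have htp := Nat.prime_of_mem_primeFactors ht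
      have htd := Nat.dvd_of_mem_primeFactors ht
      simp only [Finset.mem_insert, Finset.mem_singleton]
      rcases htp.dvd_mul.1 htd with h | h
      · obtain ⟨l, k, hl, hk, hlk⟩ := (isPrimePow_nat_iff _).1 hg.2
        rw [← hlk] at h
        have h6 : t = l := (Nat.prime_dvd_prime_iff_eq htp hl).1 (htp.dvd_of_dvd_pow h)
        have h8 := dvd_card (F := F) 2 hF
        rw [← hlk] at h8
        have h7 : 2 = l := (Nat.prime_dvd_prime_iff_eq Nat.prime_two hl).1 (Nat.prime_two.dvd_of_dvd_pow h8)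
        omega
      · by_contra hne
        have h6 := htp.two_le
        rcases Nat.lt_or_ge t 5 with h7 | h7
        · have : t = 4 := by omega
          subst this
          exact absurd htp (by decide)
        · exact hno t htp h7 (by omega) h
    have h6 := Finset.card_le_card h5
    have h7 := Finset.card_le_three (a := 2) (b := 3) (c := s)
    omega
  obtain ⟨x', hx'⟩ := exists_orderOf_prime (F := F) hs' (by rw [hF]; exact hs'd)
  obtain ⟨-, -, h2s', h3s'⟩ := g2_two_ords hs' hs'5 hx'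
  have hnp' : ∀ k, 2 ≤ k → ¬ (k * s').Prime := fun k hk => Nat.not_prime_mul (by omega) hs'.ne_one
  refine g2_row hg he (C := {4, 6, 2 * s, 3 * s, 2 * s', 3 * s'}) ?_ ?_
  · simp only [Finset.mem_insert, Finset.mem_singleton, forall_eq_or_imp, forall_eq]
    refine ⟨⟨key _ h4, by decide, by decide⟩, ⟨key _ h6, by decide, by decide⟩,
      ⟨key _ h2s, hnp 2 le_rfl, by omega⟩, ⟨key _ h3s, hnp 3 (by norm_num), by omega⟩,
      ⟨key _ h2s', hnp' 2 le_rfl, by omega⟩, ⟨key _ h3s', hnp' 3 (by norm_num), by omega⟩⟩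
  · obtain ⟨m, hm⟩ := hs.odd_of_ne_two (by omega)
    obtain ⟨m', hm'⟩ := hs'.odd_of_ne_two (by omega)
    rw [card_six (by simp only [List.nodup_cons, List.mem_cons, List.not_mem_nil, or_false, not_or, not_false_eq_true, List.nodup_nil, and_true]; (clear * - hs5 hs'5 hs's hm hm'; omega))]
    omega

/-- an element of order nine in `SL₂(8)` -/
theorem exists_nine [Finite F] (hF : Nat.card F = 8) : ∃ x : SL2 F, orderOf x = 9 := by
  have : Fintype F := Fintype.ofFinite F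
  have hF' : Fintype.card F = 8 := by rw [← hF, Nat.card_eq_fintype_card]
  have h2 : (2 : F) = 0 := by
    have h := FiniteField.cast_card_eq_zero F
    rw [hF'] at h
    have h3 : (2 : F) ^ 3 = 0 := by
      have : ((8 : ℕ) : F) = 2 ^ 3 := by norm_num
      rw [← this]; exact h
    exact pow_eq_zero_iff (by norm_num) |>.1 h3
  obtain ⟨t, ht⟩ : ∃ t : F, t ^ 3 + t + 1 = 0 := by
    classical
    obtain ⟨t, ht0, ht1⟩ : ∃ t : F, t ≠ 0 ∧ t ≠ 1 := by
      by_contra hno
      push Not at hno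
      have h3 : (Finset.univ : Finset F) ⊆ {0, 1} := by
        intro t _
        rw [Finset.mem_insert, Finset.mem_singleton]
        by_cases h : t = 0
        · exact Or.inl h
        · exact Or.inr (hno t h)
      have h4 := Finset.card_le_card h3
      rw [Finset.card_univ, hF'] at h4
      have h5 := Finset.card_le_two (a := (0 : F)) (b := 1)
      omega
    have h7 := FiniteField.pow_card_sub_one_eq_one t ht0
    rw [hF'] at h7
    have h8 : (t - 1) * ((t ^ 3 + t + 1) * (t ^ 3 + t ^ 2 + 1)) = 0 := by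
      have : (8 : ℕ) - 1 = 7 := rfl
      rw [this] at h7
      linear_combination h7 + (t ^ 4 - t ^ 3) * h2
    rcases mul_eq_zero.1 h8 with h9 | h9
    · exact absurd (sub_eq_zero.1 h9) ht1
    · rcases mul_eq_zero.1 h9 with h9 | h9
      · exact ⟨t, h9⟩
      · refine ⟨t⁻¹, ?_⟩
        have h10 : t ^ 3 * ((t⁻¹) ^ 3 + t⁻¹ + 1) = 0 := by
          have : t ^ 3 * ((t⁻¹) ^ 3 + t⁻¹ + 1) = t ^ 3 + t ^ 2 + 1 := by field_simp; ring
          rw [this]; exact h9
        exact (mul_eq_zero.1 h10).resolve_left (pow_ne_zero 3 ht0)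
  have : Fact (Nat.Prime 3) := ⟨Nat.prime_three⟩
  have hd : (!![0, 1; 1, t] : Matrix (Fin 2) (Fin 2) F).det = 1 := by
    rw [Matrix.det_fin_two]; simp; linear_combination -h2
  have hcube : (!![0, 1; 1, t] : Matrix (Fin 2) (Fin 2) F) ^ 3 = !![t, 1 + t ^ 2; 1 + t ^ 2, 2 * t + t ^ 3] := by
    rw [pow_succ, pow_two]
    ext i j
    (revert i j; simp only [_root_.Fin.forall_fin_succ, _root_.Matrix.cons_mul, _root_.Nat.succ_eq_add_one, Nat.reduceAdd, _root_.Matrix.vecMul_cons, _root_.Matrix.head_cons, _root_.zero_smul, _root_.Matrix.tail_cons, _root_.one_smul, _root_.Matrix.empty_vecMul, _root_.add_zero, _root_.zero_add, _root_.Matrix.smul_cons, _root_.smul_eq_mul, _root_.mul_one, _root_.Matrix.smul_empty, _root_.Matrix.add_cons, _root_.Matrix.empty_add_empty, _root_.Matrix.empty_mul, _root_.Equiv.symm_apply_apply, _root_.MulZeroClass.mul_zero, _root_.Matrix.of_apply, _root_.Matrix.cons_val', _root_.Matrix.cons_val_fin_one, Fin.isValue,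 _root_.Matrix.cons_val_zero, _root_.Matrix.cons_val_succ, _root_.forall_const, _root_.add_right_inj, _root_.and_true, _root_.true_and]) <;> (repeat' with_reducible apply And.intro)
    · ring
    · ring
    · ring
  have hnine : (!![t, 1 + t ^ 2; 1 + t ^ 2, 2 * t + t ^ 3] : Matrix (Fin 2) (Fin 2) F) ^ 3 = 1 := by
    rw [pow_succ, pow_two]
    ext i j
    (revert i j; simp only [_root_.Fin.forall_fin_succ, _root_.Matrix.cons_mul, _root_.Nat.succ_eq_add_one, Nat.reduceAdd, _root_.Matrix.vecMul_cons, _root_.Matrix.head_cons, _root_.Matrix.smul_cons, _root_.smul_eq_mul, _root_.Matrix.smul_empty, _root_.Matrix.tail_cons, _root_.Matrix.empty_vecMul, _root_.add_zero, _root_.Matrix.add_cons, _root_.Matrix.empty_add_empty, _root_.Matrix.empty_mul, _root_.Equiv.symm_apply_apply, _root_.Matrix.of_apply, _root_.Matrix.cons_val', _root_.Matrix.cons_val_fin_one, Fin.isValue, _root_.Matrix.cons_val_zero, _root_.Matrix.cons_val_succ, _root_.IsEmpty.forall_iff,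 _root_.Matrix.one_apply_eq, _root_.Fin.succ_zero_eq_one, _root_.ne_eq, _root_.zero_ne_one, _root_.not_false_eq_true, _root_.Matrix.one_apply_ne, _root_.Fin.succ_ne_zero, _root_.and_true, _root_.true_and]) <;> (repeat' with_reducible apply And.intro)
    · linear_combination (5 - t + 5 * t ^ 2 + t ^ 4) * ht + (-3 - 2 * t ^ 2) * h2
    · linear_combination (-5 + 9 * t - t ^ 2 + 6 * t ^ 3 + t ^ 5) * ht + (3 - 2 * t + t ^ 2) * h2
    · linear_combination (-5 + 9 * t - t ^ 2 + 6 * t ^ 3 + t ^ 5) * ht + (3 - 2 * t + t ^ 2) * h2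
    · linear_combination (7 - 6 * t + 14 * t ^ 2 - t ^ 3 + 7 * t ^ 4 + t ^ 6) * ht + (-4 + 2 * t - 4 * t ^ 2) * h2
  obtain ⟨x, hx⟩ : ∃ x : SL2 F, x.1 = !![0, 1; 1, t] := ⟨⟨_, hd⟩, rfl⟩
  refine ⟨x, orderOf_eq_prime_pow (p := 3) (n := 1) ?_ ?_⟩
  · rw [pow_one]
    intro h
    have h3 : x.1 ^ 3 = 1 := by
      have := congrArg Subtype.val h
      simpa only [_root_.Matrix.SpecialLinearGroup.coe_pow, _root_.Matrix.SpecialLinearGroup.coe_one] using this
    rw [hx, hcube] at h3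
    have h4 := congrFun (congrFun h3 0) 1
    simp only [_root_.Fin.isValue, _root_.Matrix.of_apply, _root_.Matrix.cons_val', _root_.Matrix.cons_val_one, _root_.Matrix.cons_val_fin_one, _root_.Matrix.cons_val_zero, _root_.ne_eq, _root_.zero_ne_one, _root_.not_false_eq_true, _root_.Matrix.one_apply_ne] at h4
    have h5 : (1 + t) ^ 2 = 0 := by linear_combination h4 + t * h2
    have h6 : 1 + t = 0 := pow_eq_zero_iff (by norm_num) |>.1 h5
    have h7 : (1 : F) = 0 := by linear_combination (t ^ 2 - t + 2) * h6 - ht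
    exact one_ne_zero h7
  · rw [show 3 ^ (1 + 1) = 3 * 3 by norm_num, pow_mul]
    apply Subtype.ext
    have : ((x ^ 3) ^ 3 : SL2 F).1 = (x.1 ^ 3) ^ 3 := by simp
    rw [this, hx, hcube, hnine]
    rfl

theorem g2_eight {G : Type u} [Group G] [Finite G] (hg : Cond (.g2 8))
    (he : den (.g2 8) * Nat.card G = num (.g2 8)) [Finite F] (hF : Nat.card F = 8) (e : G ≃* chevG2.group F)
    [CharP F 2] : 12 ≤ Nat.card (ConjClasses G) := by
  have : Fact (Nat.Prime 2) := ⟨Nat.prime_two⟩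
  obtain ⟨x, hx⟩ := exists_orderOf_prime (F := F) (r := 7) (by norm_num) (by rw [hF]; norm_num)
  obtain ⟨h4, h6, h14, h21⟩ := g2_two_ords (s := 7) (by norm_num) (by norm_num) hx
  obtain ⟨y, hy⟩ := exists_nine hF
  have h18 : HasOrd (chevG2.group F) (2 * 9) := g2_mul (orderOf_up 2) hy (by decide) (by norm_num)
  have key : ∀ n, HasOrd (chevG2.group F) n → HasOrd G n := fun n h => h.of_equiv e.symm
  refine g2_row hg he (C := {4, 6, 9, 14, 18, 21}) ?_ ?_
  · simp only [Finset.mem_insert, Finset.mem_singleton, forall_eq_or_imp, forall_eq]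
    exact ⟨⟨key _ h4, by norm_num, by decide⟩, ⟨key _ h6, by norm_num, by decide⟩,
      ⟨key _ (h18.of_dvd (by norm_num) (by norm_num)), by norm_num, by decide⟩, ⟨key _ h14, by norm_num, by decide⟩,
      ⟨key _ h18, by norm_num, by decide⟩, ⟨key _ h21, by norm_num, by decide⟩⟩
  · rw [card_six (by decide)]
    have := three_le_card hg.2 (by norm_num)
    omega

end Cfsg.Agent.H92.ExcG2
end

-- part: H92/ExcThree
section
prune_inst 0x20000000000000000001000000200000000000002000200000000000000000000100000000000000000000001000000000000000800000100000002400002000104240008800000000000000000000000000000000000000000000000000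
set_option linter.all false
open scoped Cfsg.Agent.FastGrp

/-!
# `F₄(3)` and `G₂(3)` have at least twelve classes
-/

set_option autoImplicit false

namespace Cfsg.Agent.H92.ExcThree

open Cfsg Cfsg.Lie Cfsg.Agent.H92.KTools Cfsg.Agent.H92.ExcSL2 Cfsg.Agent.H92.ExcOrd Cfsg.Agent.H92.ExcCount
  Cfsg.Agent.H92.ExcG2 Cfsg.Agent.H436 Cfsg.Agent.OrdDiv
  Cfsg.Agent.ChevalleyStructure Cfsg.Agent.ChevalleyStructure.Elts Cfsg.Agent.ChevalleyStructure.SL2Hom

universe u v

variable {D : ChevalleyDatum} {F : Type u} [Field F]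

theorem three_eq_zero [CharP F 3] : (3 : F) = 0 := by exact_mod_cast CharP.cast_eq_zero F 3

/-- an element of order eight in characteristic three -/
theorem orderOf_eight [CharP F 3] (hD : InList D) {i j t : ℕ} (hi : i < D.rank) (hj : j < D.rank)
    (hri : D.simple i < D.nroots) (hrj : D.simple j < D.nroots) (hn : D.neg (D.simple j) < D.nroots)
    (ht : t < D.nroots) (h1 : Odd (D.cartan i (D.simple j))) (h2 : Odd (D.cartan i (D.neg (D.simple j))))
    (h3 : Odd (D.cartan j t)) :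
    orderOf (xG hD (D.simple j) (1 : F) * xG hD (D.neg (D.simple j)) 1 * hG hD (D.simple i) (-1)) = 8 := by
  have hch : (3 : F) = 0 := three_eq_zero
  have h20 : (2 : F) ≠ 0 := fun h => one_ne_zero (α := F) (by linear_combination hch - h)
  set φ := phi (SL2All.good_of_mem D hD (D.simple j) hrj) F with hφ
  set z := xG hD (D.simple j) (1 : F) * xG hD (D.neg (D.simple j)) 1 with hz
  set h := hG hD (D.simple i) (-1 : F) with hh
  have hhh : h * h = 1 := by
    rw [hh, ← phi_neg_one hD hri, ← map_mul, neg_mul_neg, one_mul, map_one]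
  have e1 : h * z * h⁻¹ = xG hD (D.simple j) (-1 : F) * xG hD (D.neg (D.simple j)) (-1) := by
    have e2 := BruhatSplit.hG_simple_conj (F := F) hD hi hrj (c := -1) (by simp) 1
    have e3 := BruhatSplit.hG_simple_conj (F := F) hD hi hn (c := -1) (by simp) 1
    rw [h1.neg_one_zpow, mul_one] at e2
    rw [h2.neg_one_zpow, mul_one] at e3
    rw [← e2, ← e3, hz, hh]
    group
  have e4 : (z * h) ^ 2 = φ (wel (-1) (by simp)) := by
    have e5 : (z * h) ^ 2 = z * (h * z * h⁻¹) * (h * h) := by rw [sq]; group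
    rw [e5, hhh, mul_one, e1, hz, ← phi_up hD hrj, ← phi_lo hD hrj, ← phi_up hD hrj, ← phi_lo hD hrj, ← map_mul,
      ← map_mul, ← map_mul]
    congr 1
    apply Subtype.ext
    show (up 1).1 * (lo 1).1 * ((up (-1)).1 * (lo (-1)).1) = !![(0 : F), -1; -(-1)⁻¹, 0]
    ext a b
    (revert a b; simp only [up, lo, _root_.Fin.forall_fin_succ, _root_.Matrix.cons_mul, _root_.Nat.succ_eq_add_one, Nat.reduceAdd, _root_.Matrix.vecMul_cons, _root_.Matrix.head_cons, _root_.one_smul, _root_.Matrix.tail_cons, _root_.Matrix.empty_vecMul, _root_.add_zero, _root_.Matrix.add_cons, _root_.zero_add, _root_.Matrix.empty_add_empty, _root_.zero_smul, _root_.Matrix.empty_mul, _root_.Equiv.symm_apply_apply, _root_.neg_smul, _root_.Matrix.neg_cons, _root_.neg_neg, _root_.Matrix.neg_empty, _root_.Matrix.smul_cons, _root_.smul_eq_mul, _root_.mul_neg, _root_.mul_one, _root_.neg_add_rev, _root_.Matrix.smul_empty, _root_.neg_add_cancel_right, _root_.add_neg_cancel_right,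 _root_.neg_add_cancel, _root_.Matrix.of_apply, _root_.Matrix.cons_val', _root_.Matrix.cons_val_fin_one, _root_.inv_neg, _root_.inv_one, Fin.isValue, _root_.Matrix.cons_val_zero, _root_.Matrix.cons_val_succ, _root_.implies_true, _root_.and_true, _root_.true_and]) <;> (repeat' with_reducible apply And.intro)
    · linear_combination hch
  have e6 : (z * h) ^ (2 ^ 2) = φ (-1) := by
    rw [pow_succ, pow_one, pow_mul, e4, sq, ← map_mul, wel_sq]
  have : Fact (Nat.Prime 2) := ⟨Nat.prime_two⟩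
  refine orderOf_eq_prime_pow (p := 2) (n := 2) ?_ ?_
  · rw [e6]
    intro e7
    have e8 := ph_injective (F := F) hD hj hrj ht h3 (a₁ := -1) (a₂ := 1) (by
      apply Subtype.ext
      rw [coe_ph, map_one]
      exact e7)
    have e9 := congrArg (fun g : SL2 F => g.1 0 0) e8
    simp at e9
    exact h20 (by linear_combination -e9)
  · rw [show 2 ^ (2 + 1) = 2 ^ 2 * 2 by norm_num, pow_mul, e6, sq, ← map_mul, neg_mul_neg, one_mul, map_one]

/-- elements with `(x - 1)²` of rank one -/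
theorem not_isConj_of_rank {ι : Type} [Fintype ι] [DecidableEq ι] {X Y : GL ι F} {u v : ι → F}
    (hX : ((X : Matrix ι ι F) - 1) * ((X : Matrix ι ι F) - 1) = Matrix.vecMulVec u v) {M : Matrix ι ι F}
    (hM : ((Y : Matrix ι ι F) - 1) * ((Y : Matrix ι ι F) - 1) = M) {i j k l : ι}
    (hY : M i j * M k l ≠ M i l * M k j) : ¬ IsConj X Y := by
  intro h
  obtain ⟨c, hc⟩ := isConj_iff.1 h
  have h1 : (Y : Matrix ι ι F) = (c : Matrix ι ι F) * (X : Matrix ι ι F) * ((c⁻¹ : GL ι F) : Matrix ι ι F) := by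
    rw [← hc]; simp only [_root_.Units.val_mul, _root_.Matrix.coe_units_inv]
  have h2 : (c : Matrix ι ι F) * ((c⁻¹ : GL ι F) : Matrix ι ι F) = 1 := by
    rw [← Units.val_mul, mul_inv_cancel, Units.val_one]
  have h2' : ((c⁻¹ : GL ι F) : Matrix ι ι F) * (c : Matrix ι ι F) = 1 := by
    rw [← Units.val_mul, inv_mul_cancel, Units.val_one]
  have h3 : (Y : Matrix ι ι F) - 1 = (c : Matrix ι ι F) * ((X : Matrix ι ι F) - 1) * ((c⁻¹ : GL ι F) : Matrix ι ι F) := by
    rw [h1, mul_sub, sub_mul, mul_one, h2]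
  have h4 : M = Matrix.vecMulVec ((c : Matrix ι ι F).mulVec u) (Matrix.vecMul v ((c⁻¹ : GL ι F) : Matrix ι ι F)) := by
    rw [← hM, h3]
    calc (c : Matrix ι ι F) * ((X : Matrix ι ι F) - 1) * ((c⁻¹ : GL ι F) : Matrix ι ι F) *
          ((c : Matrix ι ι F) * ((X : Matrix ι ι F) - 1) * ((c⁻¹ : GL ι F) : Matrix ι ι F))
        = (c : Matrix ι ι F) * ((X : Matrix ι ι F) - 1) * (((c⁻¹ : GL ι F) : Matrix ι ι F) * (c : Matrix ι ι F)) *
          ((X : Matrix ι ι F) - 1) * ((c⁻¹ : GL ι F) : Matrix ι ι F) := by simp only [mul_assoc]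
      _ = (c : Matrix ι ι F) * (((X : Matrix ι ι F) - 1) * ((X : Matrix ι ι F) - 1)) *
          ((c⁻¹ : GL ι F) : Matrix ι ι F) := by rw [h2', mul_one]; simp only [mul_assoc]
      _ = _ := by rw [hX, Matrix.mul_vecMulVec, Matrix.vecMulVec_mul]
  apply hY
  rw [h4]
  simp only [Matrix.vecMulVec_apply]
  ring

/-! ### `G₂(3)` -/

theorem hG2 : InList chevG2 := by simp

/-- index type in normal form -/
abbrev J : Type := Fin 2 ⊕ Fin 12

def XL : Matrix J J (ZMod 3) := chevG2.xMat (ZMod 3) ⟨11, by decide⟩ 1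
def XS : Matrix J J (ZMod 3) := chevG2.xMat (ZMod 3) ⟨9, by decide⟩ 1
def MS : Matrix J J (ZMod 3) := (XS - 1) * (XS - 1)
def uL : J → ZMod 3 := Pi.single (.inr 11) 1
def vL : J → ZMod 3 := Pi.single (.inr 0) 1

set_option maxRecDepth 100000 in
theorem XL_check : ∀ i j : J, ((XL - 1) * (XL - 1)) i j = uL i * vL j := by decide +kernel

set_option maxRecDepth 100000 in
theorem XS_check : MS (.inr 7) (.inr 0) * MS (.inr 8) (.inr 1) ≠ MS (.inr 7) (.inr 1) * MS (.inr 8) (.inr 0) := by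
  decide +kernel

/-- long and short root elements of `G₂(3)` are not conjugate -/
theorem long_short : ¬ IsConj (xG hG2 11 (1 : ZMod 3)) (xG hG2 9 (1 : ZMod 3)) := by
  refine not_isConj_of_rank (F := ZMod 3) (u := uL) (v := vL) (M := MS) (i := (.inr 7 : J)) (j := (.inr 0 : J))
    (k := (.inr 8 : J)) (l := (.inr 1 : J)) ?_ ?_ XS_check
  · rw [coe_xG, x_of_lt (by decide)]
    ext i j
    exact XL_check i j
  · rw [coe_xG, x_of_lt (by decide)]
    rfl

theorem pow_four_aux {X : Type*} [Group X] {a t : X} (h : Commute a t) (ha : orderOf a = 3) (ht : orderOf t = 4) :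
    (a * t) ^ 4 = a := by
  rw [h.mul_pow, show t ^ 4 = 1 by rw [← ht]; exact pow_orderOf_eq_one t, mul_one, pow_succ,
    show a ^ 3 = 1 by rw [← ha]; exact pow_orderOf_eq_one a, one_mul]

theorem count {T : Type*} [Group T] [Finite T] {a b t s : T} (ha : orderOf a = 3) (hb : orderOf b = 3)
    (ht : orderOf t = 4) (hs : orderOf s = 4) (hat : Commute a t) (hbs : Commute b s) (hab : ¬ IsConj a b)
    (h7 : HasOrd T 7) (h13 : HasOrd T 13) (h8 : HasOrd T 8) : 12 ≤ Nat.card (ConjClasses T) := by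
  have e1 : orderOf (a * t) = 12 := by
    rw [hat.orderOf_mul_eq_mul_orderOf_of_coprime (by rw [ha, ht]; decide), ha, ht]
  have e2 : orderOf (b * s) = 12 := by
    rw [hbs.orderOf_mul_eq_mul_orderOf_of_coprime (by rw [hb, hs]; decide), hb, hs]
  have f1 : orderOf ((a * t) ^ 2) = 6 := by rw [orderOf_pow, e1]; decide
  have f2 : orderOf ((b * s) ^ 2) = 6 := by rw [orderOf_pow, e2]; decide
  have g1 : (a * t) ^ 4 = a := pow_four_aux hat ha ht
  have g2 : (b * s) ^ 4 = b := pow_four_aux hbs hb hs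
  have n1 : ¬ IsConj (a * t) (b * s) := fun h => hab (by have := h.pow 4; rwa [g1, g2] at this)
  have n2 : ¬ IsConj ((a * t) ^ 2) ((b * s) ^ 2) := fun h => hab (by
    have := h.pow 2
    rwa [← pow_mul, ← pow_mul, g1, g2] at this)
  have one : ∀ {n : ℕ}, HasOrd T n → ¬ (n = 3 ∨ n = 6 ∨ n = 12) → ∃ l : List T,
      l.length = (if n = 3 ∨ n = 6 ∨ n = 12 then 2 else 1) ∧ (∀ x ∈ l, orderOf x = n) ∧
        l.Pairwise fun x y => ¬ IsConj x y := by
    rintro n ⟨x, hx⟩ hn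
    exact ⟨[x], by simp [hn], by simpa using hx, by simp only [_root_.isConj_iff, _root_.not_exists, _root_.List.pairwise_cons, _root_.List.not_mem_nil, _root_.IsEmpty.forall_iff, _root_.implies_true, _root_.List.Pairwise.nil, _root_.and_self]⟩
  have two : ∀ {n : ℕ} {x y : T}, orderOf x = n → orderOf y = n → ¬ IsConj x y → (n = 3 ∨ n = 6 ∨ n = 12) →
      ∃ l : List T, l.length = (if n = 3 ∨ n = 6 ∨ n = 12 then 2 else 1) ∧ (∀ x ∈ l, orderOf x = n) ∧
        l.Pairwise fun x y => ¬ IsConj x y := by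
    intro n x y hx hy hxy hn
    refine ⟨[x, y], by simp [hn], ?_, by simpa only [_root_.isConj_iff, _root_.not_exists, _root_.List.pairwise_cons, _root_.List.mem_cons, _root_.List.not_mem_nil, _root_.or_false, _root_.forall_eq, _root_.IsEmpty.forall_iff, _root_.implies_true, _root_.List.Pairwise.nil, _root_.and_self, _root_.and_true] using hxy⟩
    intro z hz
    simp only [List.mem_cons, List.not_mem_nil, or_false] at hz
    rcases hz with rfl | rfl
    · exact hx
    · exact hy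
  have h4 : HasOrd T 4 := ⟨t, ht⟩
  have h := sum_le (G := T) {1, 2, 3, 4, 6, 7, 8, 12, 13} (fun n => if n = 3 ∨ n = 6 ∨ n = 12 then 2 else 1) (by
    simp only [Finset.mem_insert, Finset.mem_singleton, forall_eq_or_imp, forall_eq]
    exact ⟨one (hasOrd_one _) (by norm_num), one (h4.of_dvd (by norm_num) (by norm_num)) (by norm_num),
      two ha hb hab (by norm_num), one h4 (by norm_num), two f1 f2 n2 (by norm_num), one h7 (by norm_num),
      one h8 (by norm_num), two e1 e2 n1 (by norm_num), one h13 (by norm_num)⟩)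
  refine le_trans ?_ h
  decide

theorem fact3 : Fact (Nat.Prime 3) := ⟨Nat.prime_three⟩

attribute [local instance] fact3

/-- the same for elements of a subgroup of a group -/
theorem count' {L : Type*} [Group L] (G : Subgroup L) [Finite G] {a b t s w : L} (haG : a ∈ G) (hbG : b ∈ G)
    (htG : t ∈ G) (hsG : s ∈ G) (hwG : w ∈ G) (ha : orderOf a = 3) (hb : orderOf b = 3)
    (ht : orderOf t = 4) (hs : orderOf s = 4) (hw : orderOf w = 8) (hat : Commute a t) (hbs : Commute b s)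
    (hab : ¬ IsConj a b) (h7 : 7 ∣ Nat.card G) (h13 : 13 ∣ Nat.card G) : 12 ≤ Nat.card (ConjClasses G) := by
  have key : ∀ (x : L) (hx : x ∈ G), orderOf (⟨x, hx⟩ : G) = orderOf x := fun x hx =>
    (orderOf_injective G.subtype G.subtype_injective ⟨x, hx⟩).symm
  exact count (a := ⟨a, haG⟩) (b := ⟨b, hbG⟩) (t := ⟨t, htG⟩) (s := ⟨s, hsG⟩) ((key _ _).trans ha)
    ((key _ _).trans hb) ((key _ _).trans ht) ((key _ _).trans hs) (Subtype.ext hat) (Subtype.ext hbs)
    (fun h => hab (G.subtype.map_isConj h)) (hasOrd_prime (by norm_num) h7) (hasOrd_prime (by norm_num) h13)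
    ⟨⟨w, hwG⟩, (key _ _).trans hw⟩

theorem ord_wel {r i t : ℕ} (hi : i < chevG2.rank) (hr : chevG2.simple i < chevG2.nroots) (ht : t < chevG2.nroots)
    (ho : Odd (chevG2.cartan i t)) (e : chevG2.simple i = r) :
    orderOf (nG hG2 r (1 : ZMod 3)) = 4 := by
  subst e
  have h2 : (2 : ZMod 3) ≠ 0 := by decide
  rw [← phi_wel hG2 hr 1 one_ne_zero, ← coe_ph hG2 hr, coe_orderOf,
    orderOf_injective _ (ph_injective hG2 hi hr ht ho), orderOf_wel h2]

theorem com_wel {r s : ℕ} (hr : r < chevG2.nroots) (hs : s < chevG2.nroots) (h : Orth4 chevG2 r s = true) :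
    Commute (xG hG2 r (1 : ZMod 3)) (nG hG2 s (1 : ZMod 3)) := by
  have := phi_commute (F := ZMod 3) hG2 hr hs h (up 1) (wel 1 one_ne_zero)
  rwa [phi_up hG2 hr, phi_wel hG2 hs] at this

theorem k_g2_three (h7 : 7 ∣ Nat.card ↥(chevG2.group (ZMod 3))) (h13 : 13 ∣ Nat.card ↥(chevG2.group (ZMod 3))) :
    12 ≤ Nat.card (ConjClasses ↥(chevG2.group (ZMod 3))) :=
  count' (chevG2.group (ZMod 3)) (a := xG hG2 11 1) (b := xG hG2 9 1) (t := nG hG2 7 1) (s := nG hG2 6 1)
    (w := xG hG2 (chevG2.simple 1) (1 : ZMod 3) * xG hG2 (chevG2.neg (chevG2.simple 1)) 1 *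
      hG hG2 (chevG2.simple 0) (-1)) (xG_mem_group hG2 _ _) (xG_mem_group hG2 _ _) (nG_mem_group hG2 _ _)
    (nG_mem_group hG2 _ _) (mul_mem (mul_mem (xG_mem_group hG2 _ _) (xG_mem_group hG2 _ _))
        (hG_mem_group hG2 _ _)) (orderOf_xG hG2 (by decide) 3) (orderOf_xG hG2 (by decide) 3)
    (ord_wel (i := 0) (t := 6) (by decide) (by decide) (by decide) (by decide) rfl)
    (ord_wel (i := 1) (t := 7) (by decide) (by decide) (by decide) (by decide) rfl)
    (orderOf_eight hG2 (i := 0) (j := 1) (t := 7) (by decide) (by decide) (by decide) (by decide) (by decide)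
      (by decide) (by decide) (by decide) (by decide))
    (com_wel (by decide) (by decide) (by decide)) (com_wel (by decide) (by decide) (by decide)) long_short h7 h13

/-- **`G₂(3)`** -/
theorem g2_three' {G : Type u} [Group G] [Finite G] (he : den (.g2 3) * Nat.card G = num (.g2 3)) {F : Type v}
    [Field F] [Finite F] (hF : Nat.card F = 3) (e : G ≃* chevG2.group F) : 12 ≤ Nat.card (ConjClasses G) := by
  have := Fintype.ofFinite F
  have h : Fintype.card F = Fintype.card (ZMod 3) := by rw [← Nat.card_eq_fintype_card, hF, ZMod.card]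
  have e2 : F ≃+* ZMod 3 := FiniteField.ringEquivOfCardEq h
  have e3 := e.trans (ChevalleyStructure.FieldIso.groupEquiv chevG2 e2)
  rw [card_classes_congr e3]
  have h1 : 1 * Nat.card G = 3 ^ 6 * ((3 ^ 2 - 1) * (3 ^ 6 - 1)) := he
  rw [one_mul, Nat.card_congr e3.toEquiv] at h1
  exact k_g2_three (by rw [h1]; norm_num) (by rw [h1]; norm_num)

/-- **`F₄(3)`** -/
theorem f4_three {G : Type u} [Group G] [Finite G]
    (he : den (.f4 3) * Nat.card G = num (.f4 3)) {F : Type} [Field F] [Finite F] [CharP F 3]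
    (e : G ≃* chevF4.group F) : 12 ≤ Nat.card (ConjClasses G) := by
  have hD : InList chevF4 := by simp
  have h1 : 1 * Nat.card G = 3 ^ 24 * ((3 ^ 2 - 1) * (3 ^ 6 - 1) * (3 ^ 8 - 1) * (3 ^ 12 - 1)) := he
  have hm : 3 * (3 ^ 2 - 1) ∣ Nat.card G := mq_dvd (B := 1) h1 one_pos (dvd_pow_self 3 (by norm_num))
    (by rw [mul_one]; exact ⟨(3 ^ 6 - 1) * (3 ^ 8 - 1) * (3 ^ 12 - 1), by ring⟩) dvd_rfl
  rw [one_mul] at h1
  have d8 : 3 ^ 8 - 1 ∣ Nat.card G := by
    rw [h1]; exact ⟨3 ^ 24 * ((3 ^ 2 - 1) * (3 ^ 6 - 1) * (3 ^ 12 - 1)), by ring⟩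
  have d12 : 3 ^ 12 - 1 ∣ Nat.card G := by
    rw [h1]; exact ⟨3 ^ 24 * ((3 ^ 2 - 1) * (3 ^ 6 - 1) * (3 ^ 8 - 1)), by ring⟩
  have key : ∀ e r n, e ∣ n → 3 ^ n - 1 ∣ Nat.card G → Prim 3 e r → r ∣ Nat.card G :=
    fun e r n hen hd hr => (hr.dvd hen).trans hd
  obtain ⟨o4, o6, o12⟩ := ExcOrd.f4_odd (F := F) 3 (by norm_num)
  have h8 : HasOrd ↥(chevF4.group F) 8 := by
    refine ⟨⟨xG hD (chevF4.simple 1) (1 : F) * xG hD (chevF4.neg (chevF4.simple 1)) 1 *
      hG hD (chevF4.simple 0) (-1), mul_mem (mul_mem (xG_mem_group hD _ _) (xG_mem_group hD _ _))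
        (hG_mem_group hD _ _)⟩, ?_⟩
    rw [← coe_orderOf]
    exact orderOf_eight hD (i := 0) (j := 1) (t := 33) (by decide) (by decide) (by decide) (by decide) (by decide)
      (by decide) (by decide) (by decide) (by decide)
  refine classes_ge (q := 3) (m := 12) (by norm_num) hm {3, 4, 6, 8, 12} (by simp only [_root_.Finset.mem_insert, _root_.Finset.mem_singleton, _root_.Nat.succ_ne_self, _root_.false_and, _root_.not_false_eq_true, _root_.and_true, _root_.forall_eq_or_imp, _root_.Std.le_refl, _root_.Nat.reduceLeDiff, _root_.forall_eq, _root_.and_self]) ?_ {4, 6, 12, 8} ?_ ?_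
  · simp only [Finset.mem_insert, Finset.mem_singleton, forall_eq_or_imp, forall_eq]
    exact ⟨fun r => key 3 r 12 (by norm_num) d12, fun r => key 4 r 12 (by norm_num) d12,
      fun r => key 6 r 12 (by norm_num) d12, fun r => key 8 r 8 (by norm_num) d8,
      fun r => key 12 r 12 (by norm_num) d12⟩
  · simp only [Finset.mem_insert, Finset.mem_singleton, forall_eq_or_imp, forall_eq]
    exact ⟨⟨o4.of_equiv e.symm, by norm_num, by norm_num⟩, ⟨o6.of_equiv e.symm, by norm_num, by norm_num⟩,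
      ⟨o12.of_equiv e.symm, by norm_num, by norm_num⟩, ⟨h8.of_equiv e.symm, by norm_num, by norm_num⟩⟩
  · have : (3 * (3 ^ 2 - 1)).primeFactors = {2, 3} := by decide +kernel
    rw [this]
    decide

end Cfsg.Agent.H92.ExcThree
end
end
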