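import Cfsg.Agent.S1100
import Cfsg.Agent.S1051
import Cfsg.Agent.S1026
import Cfsg.Agent.S1080
import Cfsg.Agent.LieExceptional.BNPairCore
set_option linter.all false

/-!
# The centralizer of a group containing all `x_r(1)` in a Chevalley group (any field)

`centralizer_trivial`: an element of `D.group F` commuting with all `x_r(1)` is trivial.
-/

set_option autoImplicit false

namespace Cfsg.Agent.H92.ChevCent

open Cfsg.Lie Cfsg.Agent.ChevalleyStructure Cfsg.Agent.ChevalleyStructure.Elts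
  Cfsg.Agent.ChevalleyStructure.BruhatSplit Cfsg.Agent.ChevalleyStructure.RootCombGood
  Cfsg.Agent.ChevalleyStructure.RootWord

open scoped Pointwise

universe u

variable {D : ChevalleyDatum} {F : Type u} [Field F]

/-- `U ∩ n⁻¹ U n ≤ U_i` if `n X_{p_i} n⁻¹ ≤ V`. -/
theorem mem_Ui_of_conj (hD : InList D) {n : GL D.Idx F} (hn : n ∈ D.monomialSubgroup F) {i : ℕ} (hi : i < D.rank)
    (hneg : ∀ y ∈ D.rootSubgroup F (D.simple i), n * y * n⁻¹ ∈ D.negUnipotent F)
    {x : GL D.Idx F} (hx : x ∈ D.posUnipotent F) (hnx : n * x * n⁻¹ ∈ D.posUnipotent F) :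
    x ∈ Ui F D i := by
  have G : Good D := RootComb.good_of_mem hD
  obtain ⟨v, hv, y, hy, rfl⟩ := exists_Ui_mul hD hi hx
  set m : GL D.Idx F := nG hD (D.simple i) 1 with hm
  have hmN : m ∈ D.monomialSubgroup F := nG_one_mem_monomial hD (G.simple_lt hi)
  have hv' : m⁻¹ * v * m ∈ Ui F D i := nG_conj_Ui' hD hi hv
  obtain ⟨a, ha, c, hc, hac, hna⟩ := split hD (Subgroup.mul_mem _ hn hmN) (Ui_le i hv')
  have hcV : n * m * c * (n * m)⁻¹ ∈ D.negUnipotent F := Um_conj_mem hc
  have hyV : n * y * n⁻¹ ∈ D.negUnipotent F := hneg y hy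
  have e1 : (n * m * a * (n * m)⁻¹)⁻¹ * (n * (v * y) * n⁻¹) = (n * m * c * (n * m)⁻¹) * (n * y * n⁻¹) := by
    have : v = m * (a * c) * m⁻¹ := by rw [← hac]; group
    rw [this]
    group
  have h1 : (n * m * a * (n * m)⁻¹)⁻¹ * (n * (v * y) * n⁻¹) = 1 := by
    refine eq_one_of_pos_of_neg hD (Subgroup.mul_mem _ (Subgroup.inv_mem _ hna) hnx) ?_
    rw [e1]
    exact Subgroup.mul_mem _ hcV hyV
  rw [e1] at h1
  have h2 : m * c * m⁻¹ = y⁻¹ := by
    have : n * (m * c * m⁻¹ * y) * n⁻¹ = 1 := by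
      rw [← h1]
      group
    have h3 : m * c * m⁻¹ * y = 1 := by
      have := congrArg (fun z => n⁻¹ * z * n) this
      simpa [mul_assoc] using this
    exact eq_inv_of_mul_eq_one_left h3
  -- `c ∈ U`, `c = m⁻¹ y⁻¹ m ∈ V`
  have h4 : c = 1 := by
    refine eq_one_of_pos_of_neg hD (Um_le _ hc) ?_
    have h5 : c = m⁻¹ * y⁻¹ * m := by
      rw [← h2]
      group
    have h6 : (D.rootSubgroup F (D.simple i)).map (MulAut.conj m⁻¹).toMonoidHom =
        D.rootSubgroup F (D.neg (D.simple i)) := by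
      have h7 := acts_nG_simple (F := F) hD hi
      have h8 := Acts.inv G h7 (by simpa using hi) (D.simple i) (G.simple_lt hi)
      rw [List.reverse_singleton, wact_cons, wact_nil, G.reflect_simple hi] at h8
      exact h8
    have h9 : c ∈ D.rootSubgroup F (D.neg (D.simple i)) := by
      rw [← h6, mem_map_conj, inv_inv, h5]
      have : m * (m⁻¹ * y⁻¹ * m) * m⁻¹ = y⁻¹ := by group
      rw [this]
      exact Subgroup.inv_mem _ hy
    exact rootSubgroup_le_neg hD ((isNegRoot_neg G (G.simple_lt hi)).2 (G.simple_pos hi)) h9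
  have h5 : y = 1 := by
    rw [h4] at h2
    have : m * 1 * m⁻¹ = 1 := by group
    rw [this] at h2
    exact (inv_eq_one.1 h2.symm)
  rw [h5, mul_one]
  exact hv

/-- `X_{p_i} ∩ U_i = 1` -/
theorem eq_one_of_mem_Ui (hD : InList D) {i : ℕ} (hi : i < D.rank) {x : GL D.Idx F}
    (hx : x ∈ D.rootSubgroup F (D.simple i)) (hxU : x ∈ Ui F D i) : x = 1 := by
  have G : Good D := RootComb.good_of_mem hD
  set m : GL D.Idx F := nG hD (D.simple i) 1 with hm
  have h1 : m * x * m⁻¹ ∈ D.posUnipotent F := Ui_le i (nG_conj_Ui hD hi hxU)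
  have h2 : m * x * m⁻¹ ∈ D.negUnipotent F := by
    have h8 := acts_nG_simple (F := F) hD hi (D.simple i) (G.simple_lt hi)
    rw [wact_cons, wact_nil, G.reflect_simple hi] at h8
    have h3 : m * x * m⁻¹ ∈ D.rootSubgroup F (D.neg (D.simple i)) := by
      rw [← h8, mem_map_conj]
      have : m⁻¹ * (m * x * m⁻¹) * m = x := by group
      rw [this]
      exact hx
    exact rootSubgroup_le_neg hD ((isNegRoot_neg G (G.simple_lt hi)).2 (G.simple_pos hi)) h3
  have h3 := eq_one_of_pos_of_neg hD h1 h2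
  have := congrArg (fun z => m⁻¹ * z * m) h3
  simpa [mul_assoc] using this

/-- the group generated by the `n_r(1)`. -/
def NL (F : Type u) [Field F] (D : ChevalleyDatum) : Subgroup (GL D.Idx F) :=
  Subgroup.closure {g | ∃ r : ℕ, r < D.nroots ∧ (g : Matrix D.Idx D.Idx F) = D.nMat F r 1}

theorem NL_le (D : ChevalleyDatum) : NL F D ≤ D.monomialSubgroup F := le_sup_right

theorem NL_le_iff (hD : InList D) (K : Subgroup (GL D.Idx F)) :
    NL F D ≤ K ↔ ∀ r < D.nroots, nG hD r (1 : F) ∈ K := by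
  constructor
  · intro h r hr
    exact h (Subgroup.subset_closure ⟨r, hr, coe_nG hD r 1⟩)
  · intro h
    refine (Subgroup.closure_le _).2 ?_
    rintro g ⟨r, hr, hg⟩
    rw [(eq_nG_iff hD g r 1).2 hg]
    exact h r hr

/-- every element of `N` is `h n'` with `n'` in the group generated by the `n_r(1)`. -/
theorem exists_diag_mul_NL (hD : InList D) {n : GL D.Idx F} (hn : n ∈ D.monomialSubgroup F) :
    ∃ h ∈ D.diagonalSubgroup F, ∃ n' ∈ NL F D, n = h * n' := by
  have h1 : NL F D ≤ Subgroup.normalizer (D.diagonalSubgroup F : Set (GL D.Idx F)) :=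
    (NL_le D).trans (MonomialNormal.monomial_le_normalizer hD (SharpSign.sharp (F := F) hD))
  have h3 : ((D.diagonalSubgroup F ⊔ NL F D : Subgroup (GL D.Idx F)) : Set (GL D.Idx F)) =
      (D.diagonalSubgroup F : Set (GL D.Idx F)) * (NL F D : Set (GL D.Idx F)) :=
    Subgroup.coe_mul_of_right_le_normalizer_left _ _ h1
  have h4 : n ∈ ((D.diagonalSubgroup F ⊔ NL F D : Subgroup (GL D.Idx F)) : Set (GL D.Idx F)) := hn
  rw [h3] at h4
  obtain ⟨h, hh, n', hn', e⟩ := h4
  exact ⟨h, hh, n', hn', e.symm⟩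

/-- `n ∈ N` with `n U n⁻¹ ≤ B` lies in `B`. -/
theorem mem_borel_of_conj (hD : InList D) {n : GL D.Idx F} (hn : n ∈ D.monomialSubgroup F)
    (h : ∀ u ∈ D.posUnipotent F, n * u * n⁻¹ ∈ D.borelSubgroup F) : n ∈ D.borelSubgroup F := by
  obtain ⟨P, hB, hN, -⟩ := Cfsg.Agent.S1042.result (F := F) D hD
  obtain ⟨hBG, hNG, -⟩ := Cfsg.Agent.S1043.result (F := F) D hD
  have hnP : (⟨n, hNG hn⟩ : ↥(D.group F)) ∈ P.N := by
    rw [hN, Subgroup.mem_subgroupOf]
    exact hn
  have h1 : (⟨n, hNG hn⟩ : ↥(D.group F)) ∈ P.B := by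
    refine Cfsg.Agent.LieExceptional.BNPairCore.mem_of_conj_mem (P := P) le_rfl hnP fun b hb => ?_
    rw [hB, Subgroup.mem_subgroupOf] at hb ⊢
    obtain ⟨u, hu, t, ht, e⟩ := Cfsg.Agent.S1100.exists_mul_of_mem_borel hD hb
    show n * (b : GL D.Idx F) * n⁻¹ ∈ _
    rw [e]
    have : n * (u * t) * n⁻¹ = (n * u * n⁻¹) * (n * t * n⁻¹) := by group
    rw [this]
    exact Subgroup.mul_mem _ (h u hu)
      ((le_sup_right : D.diagonalSubgroup F ≤ _) (Cfsg.Agent.S1100.conj_mem_diagonal hD hn ht))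
  rw [hB, Subgroup.mem_subgroupOf] at h1
  exact h1

/-- An element of the Chevalley group commuting with all `x_r(1)` is trivial. -/
theorem eq_one_of_commute_all (hD : InList D) {g : GL D.Idx F} (hg : g ∈ D.group F)
    (hcomm : ∀ r < D.nroots, g * xG hD r (1 : F) = xG hD r 1 * g) : g = 1 := by
  have G : Good D := RootComb.good_of_mem hD
  -- step 1: `g ∈ B`
  have hgB : g ∈ D.borelSubgroup F := by
    obtain ⟨b, hb, n, hn, u, hu, e⟩ := (Cfsg.Agent.S1100.result (F := F) D hD).1 g hg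
    obtain ⟨w, hw, hact⟩ := exists_acts hD hn
    by_cases hall : ∀ i < D.rank, D.IsPosRoot (wact D w (D.simple i))
    · have hnB : n ∈ D.borelSubgroup F := by
        refine mem_borel_of_conj hD hn fun x hx => ?_
        have hle : D.posUnipotent F ≤ (D.borelSubgroup F).comap (MulAut.conj n).toMonoidHom := by
          refine (posUnipotent_le_iff hD _).2 fun r hr t => ?_
          have h1 := Subgroup.mem_map_of_mem (MulAut.conj n).toMonoidHom (xG_mem_rootSubgroup (F := F) hD r t)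
          rw [hact r hr.1] at h1
          exact (le_sup_left : D.posUnipotent F ≤ _)
            (rootSubgroup_le_pos hD (wact_pos_of_simple G hw hall hr) h1)
        exact hle hx
      rw [e]
      exact Subgroup.mul_mem _ (Subgroup.mul_mem _ hb hnB)
        ((le_sup_left : D.posUnipotent F ≤ _) (Um_le n hu))
    · exfalso
      push Not at hall
      obtain ⟨i, hi, hi'⟩ := hall
      have hneg : D.IsNegRoot (wact D w (D.simple i)) :=
        (isNegRoot_iff_not G (wact_lt G hw (G.simple_lt hi))).2 hi'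
      have hle := map_le_of_neg hD hact (G.simple_lt hi) hneg
      have huU : u ∈ D.posUnipotent F := Um_le n hu
      set v : GL D.Idx F := xG hD (D.simple i) 1 with hv
      have hvr : v ∈ D.rootSubgroup F (D.simple i) := xG_mem_rootSubgroup hD _ _
      have hvU : v ∈ D.posUnipotent F := rootSubgroup_le_pos hD (G.simple_pos hi) hvr
      have hc := hcomm (D.simple i) (G.simple_lt hi)
      rw [← hv] at hc
      -- `n (u v u⁻¹) n⁻¹ = b⁻¹ v b`
      have e1 : n * (u * v * u⁻¹) * n⁻¹ = b⁻¹ * v * b := by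
        have : n * (u * v * u⁻¹) * n⁻¹ = b⁻¹ * (b * n * u * v) * u⁻¹ * n⁻¹ := by group
        rw [this, ← e, hc, e]
        group
      obtain ⟨b₁, hb₁, t₁, ht₁, eb⟩ := Cfsg.Agent.S1100.exists_mul_of_mem_borel hD (Subgroup.inv_mem _ hb)
      have hHU := (Cfsg.Agent.S1036.result (F := F) D hD).1
      have h2 : b⁻¹ * v * b ∈ D.posUnipotent F := by
        have : b⁻¹ * v * b = b₁ * (t₁ * v * t₁⁻¹) * b₁⁻¹ := by
          have hb' : b = (b₁ * t₁)⁻¹ := by rw [← eb, inv_inv]
          rw [hb']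
          group
        rw [this]
        exact Subgroup.mul_mem _ (Subgroup.mul_mem _ hb₁ ((Subgroup.mem_normalizer_iff.1 (hHU ht₁) v).1 hvU))
          (Subgroup.inv_mem _ hb₁)
      have h3 : u * v * u⁻¹ ∈ D.posUnipotent F :=
        Subgroup.mul_mem _ (Subgroup.mul_mem _ huU hvU) (Subgroup.inv_mem _ huU)
      have h4 : u * v * u⁻¹ ∈ Ui F D i :=
        mem_Ui_of_conj hD hn hi (map_conj_le.1 hle) h3 (by rw [e1]; exact h2)
      -- `u` normalizes `Ui`
      have hnorm : D.posUnipotent F ≤ Subgroup.normalizer (Ui F D i : Set (GL D.Idx F)) := by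
        obtain ⟨h5, h6⟩ := Cfsg.Agent.S1045.result (F := F) D hD i hi
        rw [← h6]
        exact sup_le Subgroup.le_normalizer (le_sup_left.trans h5)
      have h5 : v ∈ Ui F D i := (Subgroup.mem_normalizer_iff.1 (hnorm huU) v).2 h4
      have h6 := eq_one_of_mem_Ui hD hi hvr h5
      rw [hv, xG_eq_one_iff hD (G.simple_lt hi)] at h6
      exact one_ne_zero h6
  -- step 2: `g` commutes with the elements of `NL`
  have hNLc : ∀ n ∈ NL F D, g * n = n * g := by
    have hle : NL F D ≤ Subgroup.centralizer {g} := by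
      rw [NL_le_iff hD]
      intro r hr
      rw [Subgroup.mem_centralizer_iff]
      intro h hh
      rw [Set.mem_singleton_iff.1 hh]
      rw [nG_def]
      have hx : ∀ s < D.nroots, Commute g (xG hD s (1 : F)) := fun s hs => hcomm s hs
      have hx' : ∀ s < D.nroots, Commute g (xG hD s (-(1 : F)⁻¹)) := fun s hs => by
        rw [inv_one, ← xG_inv]
        exact (hx s hs).inv_right
      exact ((hx r hr).mul_right ((hx' _ (neg_lt G hr)).mul_right (hx r hr)))
    intro n hn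
    exact (Subgroup.mem_centralizer_iff.1 (hle hn)) g rfl
  -- step 3: `g ∈ H`
  obtain ⟨n₀, hn₀N, hn₀⟩ := Cfsg.Agent.S1053.result (F := F) D hD
  obtain ⟨h₀, hh₀, n₁, hn₁, e₀⟩ := exists_diag_mul_NL hD hn₀N
  have hHU := (Cfsg.Agent.S1036.result (F := F) D hD).1
  have hBV := (Cfsg.Agent.S1037.result (F := F) D hD).2
  have hconjB : ∀ b ∈ D.borelSubgroup F, n₀ * b * n₀⁻¹ ∈ D.negUnipotent F ⊔ D.diagonalSubgroup F := by
    intro b hb
    obtain ⟨u, hu, t, ht, rfl⟩ := Cfsg.Agent.S1100.exists_mul_of_mem_borel hD hb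
    have : n₀ * (u * t) * n₀⁻¹ = (n₀ * u * n₀⁻¹) * (n₀ * t * n₀⁻¹) := by group
    rw [this]
    refine Subgroup.mul_mem _ ((le_sup_left : D.negUnipotent F ≤ _) ?_)
      ((le_sup_right : D.diagonalSubgroup F ≤ _) (Cfsg.Agent.S1100.conj_mem_diagonal hD hn₀N ht))
    rw [← hn₀]
    exact Subgroup.mem_map_of_mem (MulAut.conj n₀).toMonoidHom hu
  have hgH : g ∈ D.diagonalSubgroup F := by
    have h1 := hconjB g hgB
    -- `n₀ g n₀⁻¹ = h₀ g h₀⁻¹`
    have h2 : n₀ * g * n₀⁻¹ = h₀ * g * h₀⁻¹ := by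
      rw [e₀]
      have : h₀ * n₁ * g * (h₀ * n₁)⁻¹ = h₀ * (n₁ * g) * n₁⁻¹ * h₀⁻¹ := by group
      rw [this, ← hNLc n₁ hn₁]
      group
    rw [h2] at h1
    have h3 : h₀ * g * h₀⁻¹ ∈ D.borelSubgroup F :=
      Subgroup.mul_mem _ (Subgroup.mul_mem _ ((le_sup_right : D.diagonalSubgroup F ≤ _) hh₀) hgB)
        (Subgroup.inv_mem _ ((le_sup_right : D.diagonalSubgroup F ≤ _) hh₀))
    have h4 : h₀ * g * h₀⁻¹ ∈ D.diagonalSubgroup F := by
      rw [← hBV]
      exact ⟨h3, h1⟩
    have h5 : g = h₀⁻¹ * (h₀ * g * h₀⁻¹) * h₀ := by group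
    rw [h5]
    exact Subgroup.mul_mem _ (Subgroup.mul_mem _ (Subgroup.inv_mem _ hh₀) h4) hh₀
  obtain ⟨χ, -, hχ⟩ := HDiag.exists_dmat D hD g hgH
  exact Cfsg.Agent.S1051.eq_one_of_commute hD g χ hχ hcomm

end Cfsg.Agent.H92.ChevCent
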