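import Cfsg.Agent.H92.ChevCent
set_option linter.all false

/-!
# Fixed points of a field endomorphism in a Chevalley group (any field)

`f : F →+* F` acts entrywise (`fr D f`). `FL D f` is the group generated by the `x_s(t)`, `f t = t`.
* `exists_of_fixed`: a fixed element of `D.group F` is `l * h` with `l ∈ FL D f`, `h ∈ H` fixed;
* `comm_mem`: for fixed `g, k` the commutator `g k g⁻¹ k⁻¹` lies in `FL D f`.
-/

set_option autoImplicit false

namespace Cfsg.Agent.H92.ChevFrob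

open Cfsg.Lie Cfsg.Agent.ChevalleyStructure Cfsg.Agent.ChevalleyStructure.Elts
  Cfsg.Agent.ChevalleyStructure.BruhatSplit Cfsg.Agent.ChevalleyStructure.RootCombGood
  Cfsg.Agent.ChevalleyStructure.RootWord Cfsg.Agent.H92.ChevCent

universe u

variable {D : ChevalleyDatum} {F : Type u} [Field F]

/-- the entrywise action of `f`. -/
def fr (D : ChevalleyDatum) (f : F →+* F) : GL D.Idx F →* GL D.Idx F := Matrix.GeneralLinearGroup.map f

theorem coe_fr (f : F →+* F) (g : GL D.Idx F) :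
    ((fr D f g : GL D.Idx F) : Matrix D.Idx D.Idx F) = (g : Matrix D.Idx D.Idx F).map f := rfl

/-- the group generated by the root elements with fixed parameter. -/
def FL (D : ChevalleyDatum) (f : F →+* F) : Subgroup (GL D.Idx F) :=
  Subgroup.closure {g : GL D.Idx F | ∃ (s : ℕ) (t : F), f t = t ∧ (g : Matrix D.Idx D.Idx F) = D.x F s t}

theorem fr_xG (hD : InList D) (f : F →+* F) (r : ℕ) (t : F) : fr D f (xG hD r t) = xG hD r (f t) := by
  apply Units.ext
  rw [coe_fr, coe_xG, coe_xG]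
  exact Cfsg.Agent.ChevStructure.FieldMap.x_map D f r t

theorem fr_wordG (hD : InList D) (f : F →+* F) (w : List (ℕ × F)) :
    fr D f (wordG hD w) = wordG hD (w.map fun p => (p.1, f p.2)) := by
  induction w with
  | nil => exact map_one _
  | cons p w ih => rw [List.map_cons, wordG_cons, wordG_cons, map_mul, ih, fr_xG]

theorem fr_hG (hD : InList D) (f : F →+* F) (r : ℕ) (t : F) : fr D f (hG hD r t) = hG hD r (f t) := by
  unfold hG
  rw [fr_wordG]
  simp [ChevalleyDatum.hWord, ChevalleyDatum.nWord]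

theorem xG_mem_FL (hD : InList D) {f : F →+* F} (s : ℕ) {t : F} (ht : f t = t) : xG hD s t ∈ FL D f :=
  Subgroup.subset_closure ⟨s, t, ht, coe_xG hD s t⟩

theorem FL_le_iff (hD : InList D) (f : F →+* F) (K : Subgroup (GL D.Idx F)) :
    FL D f ≤ K ↔ ∀ s < D.nroots, ∀ t : F, f t = t → xG hD s t ∈ K := by
  constructor
  · intro h s _ t ht
    exact h (xG_mem_FL hD s ht)
  · intro h
    refine (Subgroup.closure_le _).2 ?_
    rintro g ⟨s, t, ht, hg⟩
    rw [(eq_xG_iff hD g s t).2 hg]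
    by_cases hs : s < D.nroots
    · exact h s hs t ht
    · rw [xG_of_not_lt hD hs]
      exact K.one_mem

theorem FL_le_group (hD : InList D) (f : F →+* F) : FL D f ≤ D.group F :=
  (FL_le_iff hD f _).2 fun s _ t _ => xG_mem_group hD s t

theorem fr_of_mem_FL (hD : InList D) {f : F →+* F} {g : GL D.Idx F} (hg : g ∈ FL D f) : fr D f g = g := by
  have h : FL D f ≤ (fr D f).eqLocus (MonoidHom.id _) := by
    rw [FL_le_iff hD]
    intro s _ t ht
    show fr D f (xG hD s t) = xG hD s t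
    rw [fr_xG, ht]
  exact h hg

theorem NL_le_FL (hD : InList D) (f : F →+* F) : NL F D ≤ FL D f := by
  have G : Good D := RootComb.good_of_mem hD
  rw [NL_le_iff hD]
  intro r hr
  rw [nG_def]
  have h1 : xG hD r (1 : F) ∈ FL D f := xG_mem_FL hD r (map_one f)
  have h2 : xG hD (D.neg r) (-(1 : F)⁻¹) ∈ FL D f := xG_mem_FL hD _ (by simp)
  exact Subgroup.mul_mem _ h1 (Subgroup.mul_mem _ h2 h1)

theorem fr_mem_group (hD : InList D) (f : F →+* F) {g : GL D.Idx F} (hg : g ∈ D.group F) :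
    fr D f g ∈ D.group F := by
  have h : D.group F ≤ (D.group F).comap (fr D f) := by
    rw [group_le_iff hD]
    intro r _ t
    show fr D f (xG hD r t) ∈ D.group F
    rw [fr_xG]
    exact xG_mem_group hD r _
  exact h hg

theorem fr_mem_pos (hD : InList D) (f : F →+* F) {g : GL D.Idx F} (hg : g ∈ D.posUnipotent F) :
    fr D f g ∈ D.posUnipotent F := by
  have h : D.posUnipotent F ≤ (D.posUnipotent F).comap (fr D f) := by
    rw [posUnipotent_le_iff hD]
    intro r hr t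
    show fr D f (xG hD r t) ∈ D.posUnipotent F
    rw [fr_xG]
    exact xG_mem_posUnipotent hD hr _
  exact h hg

theorem fr_mem_diagonal (hD : InList D) (f : F →+* F) {g : GL D.Idx F} (hg : g ∈ D.diagonalSubgroup F) :
    fr D f g ∈ D.diagonalSubgroup F := by
  have h : D.diagonalSubgroup F ≤ (D.diagonalSubgroup F).comap (fr D f) := by
    rw [diagonal_le_iff hD]
    intro r hr t ht
    show fr D f (hG hD r t) ∈ D.diagonalSubgroup F
    rw [fr_hG]
    exact hG_mem_diagonal hD hr (by simpa using ht)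
  exact h hg

theorem fr_mem_borel (hD : InList D) (f : F →+* F) {g : GL D.Idx F} (hg : g ∈ D.borelSubgroup F) :
    fr D f g ∈ D.borelSubgroup F := by
  obtain ⟨u, hu, h, hh, rfl⟩ := Cfsg.Agent.S1100.exists_mul_of_mem_borel hD hg
  rw [map_mul]
  exact Subgroup.mul_mem _ ((le_sup_left : D.posUnipotent F ≤ _) (fr_mem_pos hD f hu))
    ((le_sup_right : D.diagonalSubgroup F ≤ _) (fr_mem_diagonal hD f hh))

theorem fr_mem_Um (hD : InList D) (f : F →+* F) {n g : GL D.Idx F} (hg : g ∈ Um F D n) :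
    fr D f g ∈ Um F D n := by
  have h : Um F D n ≤ (Um F D n).comap (fr D f) := by
    refine (Subgroup.closure_le _).2 ?_
    rintro x ⟨r, t, hr, hle, hx⟩
    have hx' : x = xG hD r t := (eq_xG_iff hD x r t).2 hx
    show fr D f x ∈ Um F D n
    rw [hx', fr_xG]
    exact Subgroup.subset_closure ⟨r, f t, hr, hle, coe_xG hD r _⟩
  exact h hg

/-- fixed elements of `U` lie in `FL`. -/
theorem mem_FL_of_pos (hD : InList D) {f : F →+* F} {u : GL D.Idx F} (hu : u ∈ D.posUnipotent F)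
    (hf : fr D f u = u) : u ∈ FL D f := by
  obtain ⟨t, ⟨ht0, ht⟩, huniq⟩ := (Cfsg.Agent.S1026.result (F := F) D hD).1 u hu
  have h1 : (fun r => f (t r)) = t := by
    apply huniq
    refine ⟨fun r hr => ?_, ?_⟩
    · show f (t r) = 0
      rw [ht0 r hr, map_zero]
    · have h2 : u = wordG hD (D.posRoots.map fun r => (r, t r)) := (eq_wordG_iff hD _ _).2 ht
      have h3 := congrArg (fr D f) h2
      rw [hf, fr_wordG, List.map_map] at h3
      exact (eq_wordG_iff hD _ _).1 h3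
  have h2 : u = wordG hD (D.posRoots.map fun r => (r, t r)) := (eq_wordG_iff hD _ _).2 ht
  rw [h2]
  refine mem_of_xG_mem hD ?_
  intro p hp
  obtain ⟨r, _, rfl⟩ := List.mem_map.1 hp
  exact xG_mem_FL hD r (congrFun h1 r)

/-- fixed elements of `H` normalise `FL`. -/
theorem conj_mem_FL (hD : InList D) {f : F →+* F} {h : GL D.Idx F} (hh : h ∈ D.diagonalSubgroup F)
    (hf : fr D f h = h) {g : GL D.Idx F} (hg : g ∈ FL D f) : h * g * h⁻¹ ∈ FL D f := by
  have G : Good D := RootComb.good_of_mem hD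
  have hle : FL D f ≤ (FL D f).comap (MulAut.conj h).toMonoidHom := by
    rw [FL_le_iff hD]
    intro s hs t ht
    show h * xG hD s t * h⁻¹ ∈ FL D f
    have h1 := acts_of_mem_diagonal hD G hh s hs
    rw [wact_nil] at h1
    have h2 : h * xG hD s t * h⁻¹ ∈ D.rootSubgroup F s := by
      rw [← h1]
      exact Subgroup.mem_map_of_mem (MulAut.conj h).toMonoidHom (xG_mem_rootSubgroup hD s t)
    obtain ⟨t', ht'⟩ := (mem_rootSubgroup_iff hD s _).1 h2
    rw [ht']
    refine xG_mem_FL hD s ?_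
    apply xG_injective hD hs
    rw [← fr_xG, ← ht', map_mul, map_mul, map_inv, fr_xG, hf, ht]
  exact hle hg

/-- A fixed element of the Chevalley group is a product of an element of `FL` and a fixed element of `H`. -/
theorem exists_of_fixed (hD : InList D) {f : F →+* F} {g : GL D.Idx F} (hg : g ∈ D.group F)
    (hf : fr D f g = g) : ∃ l ∈ FL D f, ∃ h ∈ D.diagonalSubgroup F, fr D f h = h ∧ g = l * h := by
  obtain ⟨b, hb, n, hn, b', hb', e⟩ := Cfsg.Agent.S1100.exists_bruhat hD hg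
  obtain ⟨t, ht, n', hn', rfl⟩ := exists_diag_mul_NL hD hn
  have hn'N : n' ∈ D.monomialSubgroup F := NL_le D hn'
  obtain ⟨u', hu', h', hh', e'⟩ := Cfsg.Agent.S1100.exists_mul_of_mem_borel hD (Subgroup.inv_mem _ hb')
  have e'' : b' = h'⁻¹ * u'⁻¹ := by rw [← mul_inv_rev, ← e', inv_inv]
  obtain ⟨a, ha, c, hc, hac, hna⟩ := split hD hn'N (Subgroup.inv_mem _ hu')
  have h1 := Cfsg.Agent.S1100.conj_mem_diagonal hD hn'N (Subgroup.inv_mem _ hh')
  obtain ⟨B, hBdef⟩ : ∃ B : GL D.Idx F, B = b * t * (n' * h'⁻¹ * n'⁻¹) * (n' * a * n'⁻¹) := ⟨_, rfl⟩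
  have hB : B ∈ D.borelSubgroup F := by
    rw [hBdef]
    exact Subgroup.mul_mem _ (Subgroup.mul_mem _ (Subgroup.mul_mem _ hb ((le_sup_right : D.diagonalSubgroup F ≤ _) ht))
      ((le_sup_right : D.diagonalSubgroup F ≤ _) h1)) ((le_sup_left : D.posUnipotent F ≤ _) hna)
  have hg' : g = B * n' * c := by
    rw [e, e'', hac, hBdef]
    group
  have hfn : fr D f n' = n' := fr_of_mem_FL hD (NL_le_FL hD f hn')
  have h2 : fr D f B * n' * fr D f c = B * n' * c := by
    have h3 : fr D f (B * n' * c) = B * n' * c := by rw [← hg']; exact hf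
    rw [← h3, map_mul, map_mul, hfn]
  obtain ⟨h3, h4⟩ := ((Cfsg.Agent.S1100.result (F := F) D hD).2 _ _ _ _ _ _ (fr_mem_borel hD f hB) hB hn'N hn'N
    (fr_mem_Um hD f hc) hc h2).2 rfl
  obtain ⟨u, hu, h, hh, eB⟩ := Cfsg.Agent.S1100.exists_mul_of_mem_borel hD hB
  have hUH := (Cfsg.Agent.S1036.result (F := F) D hD).2
  have h5 : u⁻¹ * fr D f u = h * (fr D f h)⁻¹ := by
    rw [eB, map_mul] at h3
    calc u⁻¹ * fr D f u = u⁻¹ * (fr D f u * fr D f h) * (fr D f h)⁻¹ := by group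
      _ = u⁻¹ * (u * h) * (fr D f h)⁻¹ := by rw [h3]
      _ = _ := by group
  have h6 : u⁻¹ * fr D f u ∈ D.posUnipotent F ⊓ D.diagonalSubgroup F := by
    refine ⟨Subgroup.mul_mem _ (Subgroup.inv_mem _ hu) (fr_mem_pos hD f hu), ?_⟩
    rw [h5]
    exact Subgroup.mul_mem _ hh (Subgroup.inv_mem _ (fr_mem_diagonal hD f hh))
  rw [hUH, Subgroup.mem_bot] at h6
  have hfu : fr D f u = u := (inv_mul_eq_one.1 h6).symm
  have hfh : fr D f h = h := by
    rw [h6] at h5
    exact (mul_inv_eq_one.1 h5.symm).symm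
  have hu' : u ∈ FL D f := mem_FL_of_pos hD hu hfu
  have hc' : c ∈ FL D f := mem_FL_of_pos hD (Um_le _ hc) h4
  refine ⟨u * (h * (n' * c) * h⁻¹), Subgroup.mul_mem _ hu'
    (conj_mem_FL hD hh hfh (Subgroup.mul_mem _ (NL_le_FL hD f hn') hc')), h, hh, hfh, ?_⟩
  rw [hg', eB]
  group

/-- The commutator of two fixed elements lies in `FL`. -/
theorem comm_mem (hD : InList D) {f : F →+* F} {g k : GL D.Idx F} (hg : g ∈ D.group F)
    (hfg : fr D f g = g) (hk : k ∈ D.group F) (hfk : fr D f k = k) : g * k * g⁻¹ * k⁻¹ ∈ FL D f := by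
  obtain ⟨l, hl, h, hh, hfh, rfl⟩ := exists_of_fixed hD hg hfg
  obtain ⟨l', hl', h', hh', hfh', rfl⟩ := exists_of_fixed hD hk hfk
  have hc : h * h' = h' * h := HDiag.mul_comm_of_mem D hD hh hh'
  have e : l * h * (l' * h') * (l * h)⁻¹ * (l' * h')⁻¹ =
      l * (h * l' * h⁻¹) * (h' * l⁻¹ * h'⁻¹) * l'⁻¹ := by
    have h1 : h * h' * h⁻¹ = h' := by rw [hc]; group
    calc l * h * (l' * h') * (l * h)⁻¹ * (l' * h')⁻¹
        = l * (h * l' * h⁻¹) * (h * h' * h⁻¹) * l⁻¹ * h'⁻¹ * l'⁻¹ := by group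
      _ = l * (h * l' * h⁻¹) * h' * l⁻¹ * h'⁻¹ * l'⁻¹ := by rw [h1]
      _ = _ := by group
  rw [e]
  exact Subgroup.mul_mem _ (Subgroup.mul_mem _ (Subgroup.mul_mem _ hl (conj_mem_FL hD hh hfh hl'))
    (conj_mem_FL hD hh' hfh' (Subgroup.inv_mem _ hl))) (Subgroup.inv_mem _ hl')

end Cfsg.Agent.H92.ChevFrob
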