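import Cfsg.Agent.H92.ExcTwF4
import Cfsg.Agent.S2184
import Cfsg.Agent.Prune
set_option linter.all false
open scoped Cfsg.Agent.FastGrp

/-!
# The Tits group has at least twelve classes
-/

set_option autoImplicit false
set_option maxRecDepth 100000

namespace Cfsg.Agent.H92.ExcTits

open Cfsg Cfsg.Lie Cfsg.Agent.H92.F2Code Cfsg.Agent.H92.F4Code Cfsg.Agent.H92.KTools Cfsg.Agent.H92.ExcTwF4
  Cfsg.Agent.ChevalleyStructure Cfsg.Agent.ChevalleyStructure.Elts

universe u

theorem t16 : orderOf (el (ZMod 2) ([0, 3] ++ [0, 3] ++ ([1, 7] ++ [1, 7]))) = 16 :=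
  orderOf_wd' _ T16 (by decide) (by norm_num) (F2Fast.prod_of (by decide +kernel))
    (F2Fast.triv_of (by decide +kernel)) (by rw [p16]; exact F2Fast.ntriv_of (by decide +kernel))

theorem t12 : orderOf (el (ZMod 2) ([3] ++ [3] ++ ([0, 1] ++ [0, 1]))) = 12 :=
  orderOf_wd' _ T12 (by decide) (by norm_num) (F2Fast.prod_of (by decide +kernel))
    (F2Fast.triv_of (by decide +kernel)) (by rw [p12]; exact F2Fast.ntriv_of (by decide +kernel))

theorem t10 : orderOf (el (ZMod 2) ([1, 0] ++ [1, 0] ++ ([3, 5] ++ [3, 5]))) = 10 :=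
  orderOf_wd' _ T10 (by decide) (by norm_num) (F2Fast.prod_of (by decide +kernel))
    (F2Fast.triv_of (by decide +kernel)) (by rw [p10]; exact F2Fast.ntriv_of (by decide +kernel))

theorem hasOrd_comm {L : Type*} [Group L] (G : Subgroup L) (hidx : (commutator ↥G).index = 2) {a b : L}
    (ha : a ∈ G) (hb : b ∈ G) {n : ℕ} (h : orderOf (a * a * (b * b)) = n) : HasOrd ↥(commutator ↥G) n := by
  have h1 : (⟨a, ha⟩ * ⟨a, ha⟩ * (⟨b, hb⟩ * ⟨b, hb⟩) : ↥G) ∈ commutator ↥G :=
    mul_mem (by rw [← sq]; exact Subgroup.sq_mem_of_index_two hidx _)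
      (by rw [← sq]; exact Subgroup.sq_mem_of_index_two hidx _)
  refine ⟨⟨_, h1⟩, ?_⟩
  rw [← h, ← orderOf_injective (commutator ↥G).subtype (Subgroup.subtype_injective _),
    ← orderOf_injective G.subtype (Subgroup.subtype_injective _)]
  rfl

theorem hasOrd_tits {a b : List ℕ} (ha : ∀ k ∈ a, k < 8) (hb : ∀ k ∈ b, k < 8) {n : ℕ}
    (h : orderOf (el (ZMod 2) (a ++ a ++ (b ++ b))) = n) : HasOrd TitsGroup n := by
  rw [el_append, el_append, el_append] at h
  exact hasOrd_comm (twistedF4 (ZMod 2) 1) S1074.result.1 (el_mem one_ne_zero a ha) (el_mem one_ne_zero b hb) h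

theorem count {T : Type*} [Group T] [Finite T] (h16 : HasOrd T 16) (h12 : HasOrd T 12) (h10 : HasOrd T 10)
    (h13 : HasOrd T 13) (h2 : (ConjClasses.mk '' {g : T | orderOf g = 2}).ncard = 2) :
    12 ≤ Nat.card (ConjClasses T) := by
  obtain ⟨c, d, hcd, hS⟩ := Set.ncard_eq_two.1 h2
  obtain ⟨g, hg, rfl⟩ : c ∈ ConjClasses.mk '' {g : T | orderOf g = 2} := by rw [hS]; simp
  obtain ⟨g', hg', rfl⟩ : d ∈ ConjClasses.mk '' {g : T | orderOf g = 2} := by rw [hS]; simp
  have hns : ¬ IsConj g g' := fun h => hcd (ConjClasses.mk_eq_mk_iff_isConj.2 h)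
  have one : ∀ {n : ℕ}, HasOrd T n → n ≠ 2 → ∃ l : List T,
      l.length = (if n = 2 then 2 else 1) ∧ (∀ x ∈ l, orderOf x = n) ∧ l.Pairwise fun x y => ¬ IsConj x y := by
    rintro n ⟨x, hx⟩ hn
    exact ⟨[x], by simp [hn], by simpa using hx, by simp⟩
  have h := sum_le (G := T) {1, 2, 3, 4, 5, 6, 8, 10, 12, 13, 16} (fun n => if n = 2 then 2 else 1) (by
    simp only [Finset.mem_insert, Finset.mem_singleton, forall_eq_or_imp, forall_eq]
    refine ⟨one (hasOrd_one _) (by norm_num), ⟨[g, g'], by simp, ?_, by simpa using hns⟩,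
      one (h12.of_dvd (by norm_num) (by norm_num)) (by norm_num),
      one (h12.of_dvd (by norm_num) (by norm_num)) (by norm_num),
      one (h10.of_dvd (by norm_num) (by norm_num)) (by norm_num),
      one (h12.of_dvd (by norm_num) (by norm_num)) (by norm_num),
      one (h16.of_dvd (by norm_num) (by norm_num)) (by norm_num), one h10 (by norm_num), one h12 (by norm_num),
      one h13 (by norm_num), one h16 (by norm_num)⟩
    intro x hx
    simp only [List.mem_cons, List.not_mem_nil, or_false] at hx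
    rcases hx with rfl | rfl
    · exact hg
    · exact hg')
  refine le_trans ?_ h
  decide

theorem card_tits : Nat.card TitsGroup = 2 ^ 11 * 3 ^ 3 * 5 ^ 2 * 13 := S1074.result.2.2.2

theorem h13 [Finite TitsGroup] : HasOrd TitsGroup 13 := hasOrd_prime (by norm_num) (by rw [card_tits]; norm_num)

theorem k_tits : 12 ≤ Nat.card (ConjClasses TitsGroup) := by
  have hfin : Finite TitsGroup := Nat.finite_of_card_ne_zero (by rw [card_tits]; norm_num)
  exact count (hasOrd_tits (by decide) (by decide) t16) (hasOrd_tits (by decide) (by decide) t12)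
    (hasOrd_tits (by decide) (by decide) t10) h13 (S2184.result (K := ZMod 2) 0 (by simp)).2

theorem card_congr_tits {S : Type u} [Group S] (e : S ≃* TitsGroup) :
    Nat.card (ConjClasses S) = Nat.card (ConjClasses TitsGroup) := card_classes_congr e

theorem tits {S : Type u} [Group S] (h : IsoTits S) : 12 ≤ Nat.card (ConjClasses S) := by
  obtain ⟨e⟩ := h
  rw [card_congr_tits e]
  exact k_tits

end Cfsg.Agent.H92.ExcTits
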