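import Mathlib
import Cfsg.Agent.H771.KTools_m3
import Cfsg.Prelude.Def_KGroupFacts
import Cfsg.Agent.Lib.RingK
import Cfsg.Agent.FastGrp
import Cfsg.Agent.Prune
set_option linter.all false
prune_inst 0x7ffefef9efb8bfffffff7e7fffd9dfff99d4dfffffdffbfbfffbebffffff237fb9c5fbadfde4f8ffcef7e2b430b87813fb7eeeffef6fdc7ffffdfff45ffbee1fb7efbd0911d280261f746ffffbf37ffffffffffffffffffffffffffffffffffffffdffffffff
open scoped Cfsg.Agent.FastGrp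

-- part: H92/PRegT
section
/-!
# Isolated cyclic tori and orbits of `Aut S` (helper92, for S4883)

`T ≤ S` cyclic of order `t`, containing the centralisers of its elements of order `r` for all primes `r ∣ N`, where
`N ∣ t`; `w₀` with `|S| / t ≡ w₀` modulo some prime `r ∣ N`. Then the elements of `T` whose order has a common factor
with `N` are in `≥ # / (w₀ |Out S|)` orbits of `Aut S`.
-/

set_option autoImplicit false

namespace Cfsg.Agent.H92.PRegT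

open Cfsg.Agent.H93.PReg

universe u

variable {S : Type u} [Group S]

/-- `T` contains the centralisers of its elements of prime order dividing `N`. -/
structure IsoT (T : Subgroup S) (t N : ℕ) : Prop where
  cyc : IsCyclic ↥T
  card : Nat.card ↥T = t
  dvd : N ∣ t
  cent : ∀ r : ℕ, r.Prime → r ∣ N → ∀ y ∈ T, orderOf y = r → Subgroup.centralizer {y} ≤ T

/-- an isolated cyclic torus of order `t`, good for the primes dividing `N` -/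
def Iso (S : Type u) [Group S] (t N : ℕ) : Prop := ∃ T : Subgroup S, IsoT T t N

theorem le_cent {T : Subgroup S} (h : IsCyclic ↥T) {y : S} (hy : y ∈ T) : T ≤ Subgroup.centralizer {y} := by
  intro z hz
  rw [Subgroup.mem_centralizer_singleton_iff]
  have := (IsCyclic.commGroup (α := T)).mul_comm ⟨z, hz⟩ ⟨y, hy⟩
  exact congrArg Subtype.val this

/-- the good elements -/
def Good (T : Subgroup S) (N : ℕ) (y : S) : Prop := y ∈ T ∧ ¬ (orderOf y).Coprime N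

variable {T : Subgroup S} {t N : ℕ}

theorem IsoT.centralizer [Finite S] (h : IsoT T t N) {y : S} (hy : Good T N y) : Subgroup.centralizer {y} = T := by
  obtain ⟨r, hr, h1, h2⟩ := Nat.Prime.not_coprime_iff_dvd.1 hy.2
  refine le_antisymm ?_ (le_cent h.cyc hy.1)
  have h0 : orderOf y ≠ 0 := (orderOf_pos y).ne'
  have h3 : orderOf (y ^ (orderOf y / r)) = r := orderOf_pow_orderOf_div h0 h1
  refine le_trans ?_ (h.cent r hr h2 _ (T.pow_mem hy.1 _) h3)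
  intro z hz
  rw [Subgroup.mem_centralizer_singleton_iff] at hz ⊢
  exact (Commute.pow_right (show Commute z y from hz) _)

theorem map_centralizer (a : MulAut S) (y : S) :
    (Subgroup.centralizer {y}).map a.toMonoidHom = Subgroup.centralizer {a y} := by
  ext z
  rw [Subgroup.mem_centralizer_singleton_iff, Subgroup.mem_map]
  constructor
  · rintro ⟨x, hx, rfl⟩
    rw [Subgroup.mem_centralizer_singleton_iff] at hx
    have := congrArg a hx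
    simpa only [_root_.MulEquiv.toMonoidHom_eq_coe, _root_.MonoidHom.coe_coe, _root_.map_mul] using this
  · intro hz
    refine ⟨a.symm z, ?_, by simp⟩
    rw [Subgroup.mem_centralizer_singleton_iff]
    apply a.injective
    simpa only [_root_.map_mul, _root_.MulEquiv.apply_symm_apply] using hz

theorem Good.aut {y : S} (h : Good T N y) (a : MulAut S) (ha : a y ∈ T) : Good T N (a y) :=
  ⟨ha, by rw [orderOf_aut]; exact h.2⟩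

theorem IsoT.map_eq [Finite S] (h : IsoT T t N) {y : S} (hy : Good T N y) (a : MulAut S) (ha : a y ∈ T) :
    T.map a.toMonoidHom = T := by
  have h1 := h.centralizer (hy.aut a ha)
  rw [← map_centralizer, h.centralizer hy] at h1
  exact h1

theorem IsoT.mem_normalizer [Finite S] (h : IsoT T t N) {y g : S} (hy : Good T N y) (ha : g * y * g⁻¹ ∈ T) :
    g ∈ Subgroup.normalizer (T : Set S) := by
  have h1 := h.map_eq hy (MulAut.conj g) (by rw [MulAut.conj_apply]; exact ha)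
  rw [Subgroup.mem_normalizer_iff]
  intro x
  constructor
  · intro hx
    rw [← h1]
    exact ⟨x, hx, rfl⟩
  · intro hx
    rw [← h1] at hx
    obtain ⟨z, hz, hz2⟩ := hx
    have : z = x := by
      have h3 : g * z * g⁻¹ = g * x * g⁻¹ := hz2
      simpa only [_root_.mul_left_inj, _root_.mul_right_inj] using h3
    exact this ▸ hz

/-- the relative Weyl number -/
noncomputable def wn (T : Subgroup S) : ℕ := T.relIndex (Subgroup.normalizer (T : Set S))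

/-- a set of elements conjugate to `y` under the normaliser -/
theorem IsoT.card_fibre [Finite S] (h : IsoT T t N) {y : S} (hy : Good T N y) (Z : Finset S)
    (hZ : ∀ z ∈ Z, z ∈ T ∧ ∃ g : S, g * y * g⁻¹ = z) : Z.card ≤ wn T := by
  classical
  choose! hZT g hg using hZ
  have hgN : ∀ z ∈ Z, g z ∈ Subgroup.normalizer (T : Set S) := fun z hz =>
    h.mem_normalizer hy (by rw [hg z hz]; exact hZT z hz)
  let N' := Subgroup.normalizer (T : Set S)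
  let φ : ↥Z → ↥N' ⧸ T.subgroupOf N' := fun z => QuotientGroup.mk ⟨g z.1, hgN z.1 z.2⟩
  have hφ : Function.Injective φ := by
    intro z z' hzz
    have h1 := QuotientGroup.eq.1 hzz
    rw [Subgroup.mem_subgroupOf] at h1
    have h2 : (g z.1)⁻¹ * g z'.1 ∈ T := h1
    have h3 := le_cent h.cyc hy.1 h2
    rw [Subgroup.mem_centralizer_singleton_iff] at h3
    apply Subtype.ext
    rw [← hg z.1 z.2, ← hg z'.1 z'.2]
    have h4 : g z'.1 = g z.1 * ((g z.1)⁻¹ * g z'.1) := by group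
    rw [h4]
    generalize (g z.1)⁻¹ * g z'.1 = c at h3
    have h5 : c * y * c⁻¹ = y := by rw [h3]; group
    calc g z.1 * y * (g z.1)⁻¹ = g z.1 * (c * y * c⁻¹) * (g z.1)⁻¹ := by rw [h5]
      _ = _ := by group
  have := Nat.card_le_card_of_injective φ hφ
  rw [Nat.card_eq_fintype_card, Fintype.card_coe] at this
  exact this

/-- the orbits of `Aut S` on the good elements -/
theorem IsoT.card_orbit [Finite S] (h : IsoT T t N) {x : S} (Y : Finset S) (hY : ∀ y ∈ Y, Good T N y)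
    (hY2 : ∀ y ∈ Y, ∃ a : MulAut S, a x = y) : Y.card ≤ wn T * Nat.card (Cfsg.Out S) := by
  classical
  have hfin : Finite (MulAut S) := inferInstance
  have : Finite (Cfsg.Out S) := inferInstance
  have := Fintype.ofFinite (Cfsg.Out S)
  choose! a ha using hY2
  let c : S → Cfsg.Out S := fun y => QuotientGroup.mk (a y)
  have h1 := Finset.card_le_mul_card_image (f := c) Y (wn T) (by
    intro b hb
    obtain ⟨y, hy, hyb⟩ := Finset.mem_image.1 hb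
    refine h.card_fibre (hY y hy) _ fun z hz => ?_
    obtain ⟨hz1, hz2⟩ := Finset.mem_filter.1 hz
    refine ⟨(hY z hz1).1, ?_⟩
    have h3 : (QuotientGroup.mk (a y) : Cfsg.Out S) = QuotientGroup.mk (a z) := by
      rw [show (QuotientGroup.mk (a z) : Cfsg.Out S) = b from hz2]; exact hyb
    rw [QuotientGroup.eq] at h3
    have h4 : a z * (a y)⁻¹ ∈ Cfsg.Inn S := by
      have h5 := (Cfsg.innNormal S).conj_mem _ h3 (a y)
      have h6 : a y * ((a y)⁻¹ * a z) * (a y)⁻¹ = a z * (a y)⁻¹ := by group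
      rwa [h6] at h5
    obtain ⟨g, hg⟩ := h4
    refine ⟨g, ?_⟩
    have h7 : MulAut.conj g y = (a z * (a y)⁻¹) y := by rw [hg]
    rw [MulAut.conj_apply] at h7
    rw [h7, MulAut.mul_apply]
    have h8 : (a y)⁻¹ y = x := by
      conv_lhs => rw [← ha y hy]
      rw [ha y hy]
      conv_rhs => rw [← MulAut.inv_apply_self S (a y) x, ha y hy]
    rw [h8, ha z hz1])
  refine h1.trans (Nat.mul_le_mul le_rfl ?_)
  rw [Nat.card_eq_fintype_card]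
  exact Finset.card_le_univ _

/-! ### the relative Weyl number -/

/-- elements of order `r` in a cyclic group -/
theorem exists_order [Finite S] {r : ℕ} (hr : r.Prime) (hrt : r ∣ Nat.card ↥T) :
    ∃ y ∈ T, orderOf y = r := by
  have := Fact.mk hr
  obtain ⟨y, hy⟩ := exists_prime_orderOf_dvd_card' r hrt
  exact ⟨y.1, y.2, by rw [Subgroup.orderOf_coe]; exact hy⟩

theorem IsoT.wn_lt [Finite S] (h : IsoT T t N) {r : ℕ} (hr : r.Prime) (hrN : r ∣ N) : wn T < r := by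
  classical
  have hrt : r ∣ Nat.card ↥T := h.card ▸ hrN.trans h.dvd
  obtain ⟨y, hyT, hy⟩ := exists_order hr hrt
  have hg : Good T N y := ⟨hyT, by
    rw [hy]; intro hc'
    exact hr.one_lt.ne' (Nat.dvd_one.1 (hc' ▸ Nat.dvd_gcd dvd_rfl hrN))⟩
  let N' := Subgroup.normalizer (T : Set S)
  have := Fintype.ofFinite ↥T
  have hcent : ∀ c : ↥N', c ∈ T.subgroupOf N' ↔ c.1 * y = y * c.1 := by
    intro c
    rw [Subgroup.mem_subgroupOf, ← h.centralizer hg, Subgroup.mem_centralizer_singleton_iff]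
  let φ : ↥N' ⧸ T.subgroupOf N' → {z : ↥T // orderOf z = r} := fun c =>
    ⟨⟨c.out.1 * y * c.out.1⁻¹, (Subgroup.mem_normalizer_iff.1 c.out.2 y).1 hyT⟩, by
      rw [← Subgroup.orderOf_coe]
      exact (orderOf_aut (MulAut.conj c.out.1) y).trans hy⟩
  have hφ : Function.Injective φ := by
    intro c c' hcc
    have h1 : c.out.1 * y * c.out.1⁻¹ = c'.out.1 * y * c'.out.1⁻¹ :=
      congrArg (fun z : {z : ↥T // orderOf z = r} => z.1.1) hcc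
    have h2 : (c.out)⁻¹ * c'.out ∈ T.subgroupOf N' := by
      rw [hcent]
      change (c.out.1)⁻¹ * c'.out.1 * y = y * ((c.out.1)⁻¹ * c'.out.1)
      have h3 : c'.out.1 * y = c.out.1 * y * c.out.1⁻¹ * c'.out.1 := by rw [h1]; group
      rw [mul_assoc, h3]; group
    have h3 := QuotientGroup.eq.2 h2
    rw [QuotientGroup.out_eq', QuotientGroup.out_eq'] at h3
    exact h3
  have h1 := Nat.card_le_card_of_injective φ hφ
  have h2 : Nat.card {z : ↥T // orderOf z = r} = r - 1 := by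
    rw [Nat.card_eq_fintype_card, Fintype.card_subtype]
    have := h.cyc
    rw [IsCyclic.card_orderOf_eq_totient (by rwa [← Nat.card_eq_fintype_card]), Nat.totient_prime hr]
  rw [h2] at h1
  have h3 : wn T = Nat.card (↥N' ⧸ T.subgroupOf N') := rfl
  have := hr.one_lt
  omega

theorem card_normalizer [Finite S] : Nat.card ↥(Subgroup.normalizer (T : Set S)) = wn T * Nat.card ↥T := by
  have h1 := Subgroup.card_eq_card_quotient_mul_card_subgroup (T.subgroupOf (Subgroup.normalizer (T : Set S)))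
  rw [h1]
  congr 1
  exact Nat.card_congr (Subgroup.subgroupOfEquivOfLe Subgroup.le_normalizer).toEquiv

/-- a good subgroup of order `r` fixes exactly one conjugate -/
theorem IsoT.index_modEq [Finite S] (h : IsoT T t N) {r : ℕ} (hr : r.Prime) (hrN : r ∣ N) :
    (Subgroup.normalizer (T : Set S)).index ≡ 1 [MOD r] := by
  classical
  have := Fact.mk hr
  have hrt : r ∣ Nat.card ↥T := h.card ▸ hrN.trans h.dvd
  obtain ⟨y, hyT, hy⟩ := exists_order hr hrt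
  have hgen : ∀ z : S, orderOf z = r → z ∈ T → Good T N z := fun z hz hzT => ⟨hzT, by
    rw [hz]; intro hc
    exact hr.one_lt.ne' (Nat.dvd_one.1 (hc ▸ Nat.dvd_gcd dvd_rfl hrN))⟩
  have hg := hgen y hy hyT
  let N' := Subgroup.normalizer (T : Set S)
  have hP : IsPGroup r ↥(Subgroup.zpowers y) := IsPGroup.of_card (n := 1) (by rw [Nat.card_zpowers, hy, pow_one])
  have h1 := hP.card_modEq_card_fixedPoints (S ⧸ N')
  have h2 : Nat.card ↥(MulAction.fixedPoints ↥(Subgroup.zpowers y) (S ⧸ N')) = 1 := by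
    rw [Nat.card_eq_one_iff_unique]
    have hfix : ∀ c : S ⧸ N', c ∈ MulAction.fixedPoints ↥(Subgroup.zpowers y) (S ⧸ N') → c = QuotientGroup.mk 1 := by
      intro c hc
      obtain ⟨g, rfl⟩ := QuotientGroup.mk_surjective c
      have h3 := hc ⟨y, Subgroup.mem_zpowers y⟩
      have h4 : (QuotientGroup.mk (y * g) : S ⧸ N') = QuotientGroup.mk g := h3
      have h5 := QuotientGroup.eq.1 h4.symm
      -- `y' = g⁻¹ y g` normalises `T`, of order `r`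
      have h6 : g⁻¹ * y * g ∈ N' := by rwa [← mul_assoc] at h5
      have hy' : orderOf (g⁻¹ * y * g) = r := by
        have := orderOf_aut (MulAut.conj g⁻¹) y
        rw [MulAut.conj_apply, inv_inv] at this
        rw [this, hy]
      -- the fixed points of `y'` on `zpowers y`
      have h7 : g⁻¹ * y * g ∈ T := by
        have hn : (T.subgroupOf N').Normal := Subgroup.normal_in_normalizer
        have h8 : (⟨g⁻¹ * y * g, h6⟩ : ↥N') ^ Nat.gcd r (wn T) ∈ T.subgroupOf N' := by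
          rw [← QuotientGroup.eq_one_iff, QuotientGroup.mk_pow]
          refine pow_gcd_eq_one.2 ⟨?_, ?_⟩
          · rw [← QuotientGroup.mk_pow]
            have h10 : (⟨g⁻¹ * y * g, h6⟩ : ↥N') ^ r = 1 := by
              apply Subtype.ext
              have := pow_orderOf_eq_one (g⁻¹ * y * g)
              rwa [hy'] at this
            rw [h10]; rfl
          · have h10 : wn T = Nat.card (↥N' ⧸ T.subgroupOf N') := rfl
            rw [h10]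
            exact pow_card_eq_one'
        have h9 : Nat.gcd r (wn T) = 1 := by
          refine (Nat.Prime.coprime_iff_not_dvd hr).2 fun hd => ?_
          have h10 : 0 < wn T := Nat.pos_of_ne_zero (Subgroup.index_ne_zero_of_finite)
          exact absurd (Nat.le_of_dvd h10 hd) (not_le.2 (h.wn_lt hr hrN))
        rw [h9, pow_one, Subgroup.mem_subgroupOf] at h8
        exact h8
      have h8 : g⁻¹ * y * g⁻¹⁻¹ ∈ T := by rwa [inv_inv]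
      have h9 := h.mem_normalizer hg h8
      rw [QuotientGroup.eq]
      simpa using h9
    refine ⟨⟨fun a b => Subtype.ext ((hfix a.1 a.2).trans (hfix b.1 b.2).symm)⟩, ⟨⟨QuotientGroup.mk 1, ?_⟩⟩⟩
    intro z
    have h3 : (QuotientGroup.mk (z.1 * 1) : S ⧸ N') = QuotientGroup.mk 1 := by
      rw [QuotientGroup.eq, mul_one, mul_one]
      refine N'.inv_mem (Subgroup.le_normalizer ?_)
      have := z.2
      exact (Subgroup.zpowers_le.2 hyT) this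
    exact h3
  rw [h2] at h1
  exact h1

theorem IsoT.wn_le [Finite S] (h : IsoT T t N) {r : ℕ} (hr : r.Prime) (hrN : r ∣ N) {w : ℕ}
    (hw : Nat.card S / t ≡ w [MOD r]) : wn T ≤ w := by
  have h1 := (Subgroup.normalizer (T : Set S)).card_mul_index
  rw [card_normalizer, h.card] at h1
  have ht : 0 < t := h.card ▸ Nat.card_pos
  have h2 : Nat.card S / t = wn T * (Subgroup.normalizer (T : Set S)).index := by
    rw [← h1]
    exact Nat.div_eq_of_eq_mul_right ht (by ring)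
  rw [h2] at hw
  have h3 : wn T ≡ w [MOD r] := by
    have h4 := (h.index_modEq hr hrN).mul_left (wn T)
    rw [mul_one] at h4
    exact h4.symm.trans hw
  have h4 : wn T % r = wn T := Nat.mod_eq_of_lt (h.wn_lt hr hrN)
  have h5 : wn T % r = w % r := h3
  rw [← h4, h5]
  exact Nat.mod_le _ _

/-- **the torus lemma**: `t'` is a `p'`-divisor of `t` with `N' ∣ gcd(t', N)` -/
theorem IsoT.mo [Finite S] (h : IsoT T t N) {r : ℕ} (hr : r.Prime) (hrN : r ∣ N) {w : ℕ}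
    (hw : Nat.card S / t ≡ w [MOD r]) {o : ℕ} (ho : Nat.card (Cfsg.Out S) ≤ o) {t' N' n : ℕ} (ht' : t' ∣ t)
    (hN' : N' ∣ t') (hN : N' ∣ N) (hlt : (n - 1) * (w * o) < t' - t' / N') :
    MO {k | k ∣ t' ∧ ¬ k.Coprime N'} n S := by
  classical
  have := Fintype.ofFinite S
  have ht0 : 0 < t := h.card ▸ Nat.card_pos
  have ht0' : 0 < t' := Nat.pos_of_dvd_of_pos ht' ht0
  have hN0 : 0 < N' := Nat.pos_of_dvd_of_pos hN' ht0'
  obtain ⟨g, hgT, hg⟩ : ∃ g ∈ T, orderOf g = t := by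
    have := h.cyc
    obtain ⟨g, hg⟩ := IsCyclic.exists_generator (α := ↥T)
    refine ⟨g.1, g.2, ?_⟩
    rw [Subgroup.orderOf_coe, orderOf_eq_card_of_forall_mem_zpowers hg, h.card]
  let K : Subgroup S := Subgroup.zpowers (g ^ (t / t'))
  have hK : Nat.card ↥K = t' := by
    rw [Nat.card_zpowers, orderOf_pow_of_dvd (Nat.div_pos (Nat.le_of_dvd ht0 ht') ht0').ne'
      (by rw [hg]; exact Nat.div_dvd_of_dvd ht'), hg, Nat.div_div_self ht' ht0.ne']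
  have hKT : K ≤ T := Subgroup.zpowers_le.2 (T.pow_mem hgT _)
  have hKc : IsCyclic ↥K := inferInstance
  have := Fintype.ofFinite ↥K
  let X0 : Finset ↥K := Finset.univ.filter fun y => ¬ y ^ (t' / N') = 1
  let X : Finset S := X0.map ⟨Subtype.val, Subtype.val_injective⟩
  have hX : ∀ y ∈ X, y ∈ K ∧ orderOf y ∣ t' ∧ ¬ (orderOf y).Coprime N' := by
    intro y hy
    obtain ⟨z, hz, rfl⟩ := Finset.mem_map.1 hy
    have hz2 := (Finset.mem_filter.1 hz).2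
    have h1 : orderOf (z : S) ∣ t' := by
      rw [Subgroup.orderOf_coe, ← hK]
      exact orderOf_dvd_natCard z
    refine ⟨z.2, h1, fun hc => hz2 ?_⟩
    have h2 : orderOf (z : S) ∣ t' / N' := by
      refine hc.dvd_of_dvd_mul_left ?_
      rwa [Nat.mul_div_cancel' hN']
    rw [Subgroup.orderOf_coe] at h2
    exact orderOf_dvd_iff_pow_eq_one.1 h2
  have hcard : t' - t' / N' ≤ X.card := by
    rw [Finset.card_map]
    have h1 := Finset.card_filter_add_card_filter_not (s := (Finset.univ : Finset ↥K)) (fun y => y ^ (t' / N') = 1)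
    have h2 : (Finset.univ.filter fun y : ↥K => y ^ (t' / N') = 1).card ≤ t' / N' :=
      IsCyclic.card_pow_eq_one_le (Nat.div_pos (Nat.le_of_dvd ht0' hN') hN0)
    rw [Finset.card_univ, ← Nat.card_eq_fintype_card, hK] at h1
    have h3 : X0.card = (Finset.univ.filter fun y : ↥K => ¬ y ^ (t' / N') = 1).card := rfl
    omega
  refine MO.of_count X (fun y hy => (hX y hy).2) (w * o) (fun x hx Y hYX hY => ?_) (lt_of_lt_of_le hlt hcard)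
  refine (h.card_orbit Y (fun y hy => ?_) hY).trans (Nat.mul_le_mul (h.wn_le hr hrN hw) ho)
  have h1 := hX y (hYX hy)
  exact ⟨hKT h1.1, fun hc => h1.2.2 (Nat.Coprime.coprime_dvd_right hN hc)⟩

theorem Iso.mo [Finite S] (h : Iso S t N) {w : ℕ} (hw : Nat.card S / t ≡ w [MOD N]) {o : ℕ}
    (ho : Nat.card (Cfsg.Out S) ≤ o) {t' N' n : ℕ} (ht' : t' ∣ t)
    (hN' : N' ∣ t') (hN : N' ∣ N) (hlt : (n - 1) * (w * o) < t' - t' / N') :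
    MO {k | k ∣ t' ∧ ¬ k.Coprime N'} n S := by
  obtain ⟨T, hT⟩ := h
  have hN1 : N' ≠ 1 := by
    rintro rfl
    rw [Nat.div_one, Nat.sub_self] at hlt
    omega
  obtain ⟨r, hr, hrN⟩ := Nat.exists_prime_and_dvd hN1
  exact hT.mo hr (hrN.trans hN) (hw.of_dvd (hrN.trans hN)) ho ht' hN' hN hlt

/-- the case `N' = t'` -/
theorem Iso.mo' [Finite S] (h : Iso S t N) {w : ℕ} (hw : Nat.card S / t ≡ w [MOD N]) {o : ℕ}
    (ho : Nat.card (Cfsg.Out S) ≤ o) {m n : ℕ} (hm : m ∣ N) (hlt : (n - 1) * (w * o) < m - 1) :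
    MO {k | k ∣ m ∧ k ≠ 1} n S := by
  obtain ⟨T, hT⟩ := id h
  have hm0 : 0 < m := by omega
  have h1 := h.mo hw ho (hm.trans hT.dvd) dvd_rfl hm (n := n) (by rw [Nat.div_self hm0]; exact hlt)
  refine h1.mono (fun k hk => ⟨hk.1, fun h1 => hk.2 ?_⟩) le_rfl
  rw [h1]; exact Nat.coprime_one_left _

theorem Iso.congr {S' : Type*} [Group S'] (e : S ≃* S') (h : Iso S t N) : Iso S' t N := by
  obtain ⟨T, hT⟩ := h
  refine ⟨T.map e.toMonoidHom, (T.equivMapOfInjective e.toMonoidHom e.injective).isCyclic.1 hT.cyc, ?_, hT.dvd, ?_⟩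
  · rw [Nat.card_congr (T.equivMapOfInjective e.toMonoidHom e.injective).symm.toEquiv]
    exact hT.card
  · rintro r hr hrN _ ⟨y, hy, rfl⟩ hyr z hz
    rw [Subgroup.mem_centralizer_singleton_iff] at hz
    have ho : orderOf y = r := by
      rw [← hyr]
      exact (orderOf_injective e.toMonoidHom e.injective y).symm
    refine ⟨e.symm z, hT.cent r hr hrN y hy ho ?_, by simp⟩
    rw [Subgroup.mem_centralizer_singleton_iff]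
    apply e.injective
    simpa only [_root_.map_mul, _root_.MulEquiv.apply_symm_apply, _root_.MulEquiv.toMonoidHom_eq_coe, _root_.MonoidHom.coe_coe] using hz

theorem Iso.mono {N' : ℕ} (h : Iso S t N) (hN : N' ∣ N) : Iso S t N' := by
  obtain ⟨T, hT⟩ := h
  exact ⟨T, hT.cyc, hT.card, hN.trans hT.dvd, fun r hr hrN => hT.cent r hr (hrN.trans hN)⟩

end Cfsg.Agent.H92.PRegT
end

-- part: H92/PRegNum
section
/-!
# Number-theoretic tools for the exceptional rows of S4883 (helper92)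
-/

set_option autoImplicit false

namespace Cfsg.Agent.H92.PRegNum

open Cfsg.Agent.H93.PReg Cfsg.Agent.H92.PRegT Cfsg.Agent.H92.KTools

universe u

theorem modEq_of_int {c t N w : ℕ} {M : ℤ} (ht : 0 < t) (h1 : (c : ℤ) = t * M) (h2 : (N : ℤ) ∣ M - w) :
    c / t ≡ w [MOD N] := by
  have ht' : (0 : ℤ) < t := by exact_mod_cast ht
  have hM : 0 ≤ M := by
    by_contra hneg
    push Not at hneg
    have : (c : ℤ) < 0 := by rw [h1]; exact mul_neg_of_pos_of_neg ht' hneg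
    omega
  obtain ⟨m, rfl⟩ := Int.eq_ofNat_of_zero_le hM
  have h3 : c = t * m := by exact_mod_cast h1
  rw [h3, Nat.mul_div_cancel_left _ ht]
  exact ((Nat.modEq_iff_dvd).2 (by
    have := (dvd_neg (α := ℤ)).2 h2
    simpa only [_root_.neg_sub] using this))

/-! ### divisibility in `ℤ` -/

theorem not_sq {P a b : ℤ} (hP : Prime P) (ha : ¬ P ∣ a) (hb : ¬ P ^ (2:ℕ) ∣ b) : ¬ P ^ (2:ℕ) ∣ a * b := fun h =>
  hb (hP.pow_dvd_of_dvd_mul_left 2 ha h)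

theorem not_sq2 {P a b : ℤ} (hP : Prime P) (hab : P ∣ a → P ∣ b → False) (ha : ¬ P ^ (2:ℕ) ∣ a) (hb : ¬ P ^ (2:ℕ) ∣ b) :
    ¬ P ^ (2:ℕ) ∣ a * b := by
  by_cases h : P ∣ a
  · rw [mul_comm]
    exact not_sq hP (fun h2 => hab h h2) ha
  · exact not_sq hP h hb

theorem nd_lt {P a : ℤ} (ha : 0 < a) (h : a < P) : ¬ P ∣ a := fun hd => absurd (Int.le_of_dvd ha hd) (not_le.2 h)

theorem nd_mul {P a b : ℤ} (hP : Prime P) (ha : ¬ P ∣ a) (hb : ¬ P ∣ b) : ¬ P ∣ a * b := fun h =>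
  (hP.dvd_or_dvd h).elim ha hb

theorem nd_pow {P a : ℤ} (hP : Prime P) (ha : ¬ P ∣ a) (n : ℕ) : ¬ P ∣ a ^ n := fun h => ha (hP.dvd_of_dvd_pow h)

theorem nd_abs {P a : ℤ} (ha : a ≠ 0) (h : |a| < P) : ¬ P ∣ a := fun hd =>
  nd_lt (abs_pos.2 ha) h ((dvd_abs P a).2 hd)

theorem dvd_gcd_pow {P x : ℤ} {m n : ℕ} (hm : P ∣ x ^ m - 1) (hn : P ∣ x ^ n - 1) : P ∣ x ^ Nat.gcd m n - 1 := by
  have key : ∀ k : ℕ, P ∣ x ^ k - 1 ↔ (Ideal.Quotient.mk (Ideal.span {P}) x) ^ k = 1 := by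
    intro k
    rw [← Ideal.mem_span_singleton, ← Ideal.Quotient.eq_zero_iff_mem, map_sub, map_pow, map_one, sub_eq_zero]
  rw [key] at hm hn ⊢
  exact pow_gcd_eq_one.2 ⟨hm, hn⟩

theorem not_sq_list {P x : ℤ} (hP : Prime P) (L : List ℕ) (h1 : ∀ d ∈ L, ¬ P ^ (2:ℕ) ∣ x ^ d - 1)
    (h2 : L.Pairwise fun d d' => ¬ P ∣ x ^ Nat.gcd d d' - 1) : ¬ P ^ (2:ℕ) ∣ (L.map fun d => x ^ d - 1).prod := by
  induction L with
  | nil =>
    rw [List.map_nil, List.prod_nil]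
    exact fun h => hP.not_dvd_one ((dvd_pow_self P two_ne_zero).trans h)
  | cons d L ih =>
    rw [List.map_cons, List.prod_cons]
    rw [List.pairwise_cons] at h2
    refine not_sq2 hP (fun h3 h4 => ?_) (h1 d (by simp)) (ih (fun e he => h1 e (by simp [he])) h2.2)
    rw [Prime.dvd_prod_iff hP] at h4
    obtain ⟨a, ha, hPa⟩ := h4
    obtain ⟨e, he, rfl⟩ := List.mem_map.1 ha
    exact h2.1 e he (dvd_gcd_pow h3 hPa)

/-- from a torus -/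
theorem reg_of_torus {S : Type u} [Group S] {m n p : ℕ} (hm : ¬ p ∣ m) (h : MO {k | k ∣ m ∧ k ≠ 1} n S) :
    MO (Reg p) n S := h.mono (fun _ hk hd => hm (hd.trans hk.1)) le_rfl

/-- adding element orders to a torus -/
theorem reg_add {S : Type u} [Group S] {m n p : ℕ} (hm : ¬ p ∣ m) (h : MO {k | k ∣ m ∧ k ≠ 1} n S)
    (L : Finset ℕ) (hL : ∀ k ∈ L, HasOrd S k) (hL2 : ∀ k ∈ L, ¬ p ∣ k) (hL3 : ∀ k ∈ L, k ∣ m → k = 1)
    {n' : ℕ} (hn : n' ≤ n + L.card) : MO (Reg p) n' S := by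
  have h1 := MO.of_finset (A := {k | ¬ p ∣ k ∧ (k ∣ m → k = 1)}) L hL fun k hk => ⟨hL2 k hk, hL3 k hk⟩
  refine (MO.add ?_ h h1).mono ?_ hn
  · rw [Set.disjoint_left]
    intro k hk hk2
    exact hk.2 (hk2.2 hk.1)
  · rintro k (hk | hk)
    · exact fun hd => hm (hd.trans hk.1)
    · exact hk.1

/-- two tori and some element orders -/
theorem reg_add2 {S : Type u} [Group S] {m₁ m₂ n₁ n₂ p : ℕ} (h12 : m₁.Coprime m₂) (hm₁ : ¬ p ∣ m₁) (hm₂ : ¬ p ∣ m₂)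
    (h₁ : MO {k | k ∣ m₁ ∧ k ≠ 1} n₁ S) (h₂ : MO {k | k ∣ m₂ ∧ k ≠ 1} n₂ S)
    (L : Finset ℕ) (hL : ∀ k ∈ L, HasOrd S k) (hL2 : ∀ k ∈ L, ¬ p ∣ k) (hL3 : ∀ k ∈ L, k ∣ m₁ → k = 1)
    (hL4 : ∀ k ∈ L, k ∣ m₂ → k = 1) {n' : ℕ} (hn : n' ≤ n₁ + n₂ + L.card) : MO (Reg p) n' S := by
  have h1 := MO.of_finset (A := {k | ¬ p ∣ k ∧ (k ∣ m₁ → k = 1) ∧ (k ∣ m₂ → k = 1)}) L hL
    fun k hk => ⟨hL2 k hk, hL3 k hk, hL4 k hk⟩
  refine (MO.add ?_ (MO.add ?_ h₁ h₂) h1).mono ?_ hn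
  · rw [Set.disjoint_left]
    rintro k (hk | hk) hk2
    · exact hk.2 (hk2.2.1 hk.1)
    · exact hk.2 (hk2.2.2 hk.1)
  · rw [Set.disjoint_left]
    intro k hk hk2
    exact hk.2 (Nat.dvd_one.1 (h12 ▸ Nat.dvd_gcd hk.1 hk2.1))
  · rintro k ((hk | hk) | hk)
    · exact fun hd => hm₁ (hd.trans hk.1)
    · exact fun hd => hm₂ (hd.trans hk.1)
    · exact hk.1

/-- only element orders -/
theorem reg_ords {S : Type u} [Group S] {p : ℕ} (L : Finset ℕ) (hL : ∀ k ∈ L, HasOrd S k) (hL2 : ∀ k ∈ L, ¬ p ∣ k)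
    {n : ℕ} (hn : n ≤ L.card) : MO (Reg p) n S :=
  (MO.of_finset (A := Reg p) L hL hL2).mono (fun _ h => h) hn

/-- `1` and prime divisors of the order are element orders -/
theorem ords {S : Type u} [Group S] [Finite S] {n : ℕ} (hn : Nat.card S = n) (L : Finset ℕ)
    (hL : ∀ k ∈ L, k = 1 ∨ k.Prime ∧ k ∣ n) : ∀ k ∈ L, HasOrd S k := by
  intro k hk
  rcases hL k hk with rfl | ⟨h1, h2⟩
  · exact hasOrd_one S
  · exact hasOrd_prime h1 (hn ▸ h2)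

/-- the congruence for a torus of order `Nf` or `Nf / g` -/
theorem mod_gen {S : Type u} [Group S] [Finite S] {g Nf t N N' w : ℕ} {M : ℤ} (hg : g = 1 ∨ g.Prime)
    (hcard : (g : ℤ) * Nat.card S = Nf * M) (hNf : 0 < Nf) (hM : (N : ℤ) ∣ M - w) (hgw : g ∣ w)
    (hco : Nat.Coprime g N) (h1 : Nf ∣ g * t) (h2 : t ∣ Nf) (hiso : Iso S t N') :
    ∃ w', w' ≤ w ∧ Nat.card S / t ≡ w' [MOD N] := by
  obtain ⟨T, hT⟩ := hiso
  obtain ⟨k, hk⟩ := h2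
  have ht0 : 0 < t := Nat.pos_of_ne_zero (by rintro rfl; omega)
  have hk0 : 0 < k := Nat.pos_of_ne_zero (by rintro rfl; omega)
  have hkg : k ∣ g := by
    rw [hk, mul_comm g t] at h1
    exact Nat.dvd_of_mul_dvd_mul_left ht0 h1
  have hcase : k = g ∨ (k = 1 ∧ g.Prime) := by
    rcases hg with rfl | hg
    · exact Or.inl (Nat.dvd_one.1 hkg)
    · rcases (Nat.dvd_prime hg).1 hkg with h | h
      · exact Or.inr ⟨h, hg⟩
      · exact Or.inl h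
  rcases hcase with rfl | ⟨rfl, hg'⟩
  · refine ⟨w, le_rfl, modEq_of_int (M := M) ht0 ?_ hM⟩
    have hk' : (k : ℤ) ≠ 0 := by exact_mod_cast hk0.ne'
    apply mul_left_cancel₀ hk'
    rw [hcard, hk]; push_cast; ring
  · have h5 : t ∣ Nat.card S := by rw [← hT.card]; exact Subgroup.card_subgroup_dvd_card T
    obtain ⟨u, hu⟩ := h5
    obtain ⟨w', rfl⟩ := hgw
    have hg0 : 0 < g := hg'.pos
    refine ⟨w', Nat.le_mul_of_pos_left w' hg0, modEq_of_int (M := (u : ℤ)) ht0 (by rw [hu]; push_cast; ring) ?_⟩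
    have h6 : (g : ℤ) * u = M := by
      have h7 : (t : ℤ) ≠ 0 := by exact_mod_cast ht0.ne'
      apply mul_left_cancel₀ h7
      rw [mul_one] at hk
      rw [hk] at hcard
      rw [← hcard, hu]; push_cast; ring
    have h7 : (N : ℤ) ∣ g * ((u : ℤ) - w') := by
      rw [← h6] at hM
      rw [mul_sub]
      exact_mod_cast hM
    have h8 : IsCoprime (N : ℤ) g := Nat.isCoprime_iff_coprime.2 hco.symm
    exact h8.dvd_of_dvd_mul_left h7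

/-! ### the exponent `f` -/

theorem two_le_of {q ℓ f : ℕ} (hℓ : ℓ.Prime) (hf : 1 ≤ f) (hq : q = ℓ ^ f) : 2 ≤ q := by
  rw [hq]
  calc 2 ≤ ℓ := hℓ.two_le
    _ = ℓ ^ (1:ℕ) := (pow_one ℓ).symm
    _ ≤ ℓ ^ f := Nat.pow_le_pow_right hℓ.pos hf

/-- `q = 2^f` or `3^f ≤ q`, `q` odd -/
theorem two_or_three {q ℓ f : ℕ} (hℓ : ℓ.Prime) (hq : q = ℓ ^ f) : (ℓ = 2 ∧ q = 2 ^ f) ∨ (ℓ ≠ 2 ∧ 3 ^ f ≤ q ∧ Odd q) := by
  rcases hℓ.eq_two_or_odd' with rfl | h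
  · exact Or.inl ⟨rfl, hq⟩
  · refine Or.inr ⟨?_, ?_, ?_⟩
    · rintro rfl; exact absurd h (by decide)
    · rw [hq]
      refine Nat.pow_le_pow_left ?_ f
      have := hℓ.two_le
      rcases h with ⟨k, rfl⟩
      omega
    · rw [hq]; exact h.pow

theorem lt_two_pow' (f : ℕ) : f + 1 ≤ 2 ^ f := Nat.lt_two_pow_self

theorem four_mul_le {f : ℕ} (hf : 4 ≤ f) : 4 * f ≤ 2 ^ f := by
  induction f, hf using Nat.le_induction with
  | base => norm_num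
  | succ n hn ih => rw [pow_succ]; omega

theorem nine_mul_le {f : ℕ} (hf : 2 ≤ f) : 9 * f ≤ 2 * 3 ^ f := by
  induction f, hf using Nat.le_induction with
  | base => norm_num
  | succ n hn ih => rw [pow_succ]; omega

end Cfsg.Agent.H92.PRegNum
end

-- part: H92/PRegE8
section
/-!
# `E₈(q)`: the number theory (helper92, for S4883)
-/

set_option autoImplicit false
set_option linter.unusedSectionVars false

namespace Cfsg.Agent.H92.PRegE8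

open Cfsg.Agent.H93.PReg Cfsg.Agent.H92.PRegT Cfsg.Agent.H92.KTools Cfsg.Agent.H92.PRegNum

universe u

/-- the order polynomial -/
def P8 (x : ℤ) : ℤ := x ^ (120:ℕ) * (x ^ (30:ℕ) - 1) * (x ^ (24:ℕ) - 1) * (x ^ (20:ℕ) - 1) * (x ^ (18:ℕ) - 1) * (x ^ (14:ℕ) - 1) *
  (x ^ (12:ℕ) - 1) * (x ^ (8:ℕ) - 1) * (x ^ (2:ℕ) - 1)

set_option maxHeartbeats 4000000 in
theorem bound {x P : ℤ} (hx : 2 ≤ x) (hP : Prime P) (h : P ^ (2:ℕ) ∣ P8 x) : P ≤ x ^ (4:ℕ) + x ^ (3:ℕ) + x ^ (2:ℕ) + x + 1 := by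
  by_contra hlt
  push Not at hlt
  obtain ⟨a, rfl⟩ : ∃ a, x = a + 2 := ⟨x - 2, by ring⟩
  have ha : 0 ≤ a := by omega
  set B : ℤ := (a + 2) ^ (4:ℕ) + (a + 2) ^ (3:ℕ) + (a + 2) ^ (2:ℕ) + (a + 2) + 2 with hB
  have hPx : B ≤ P := by rw [hB]; linarith
  have hP2 : B ^ (2:ℕ) ≤ P ^ (2:ℕ) := pow_le_pow_left₀ (by rw [hB]; positivity) hPx 2
  have nd : ∀ c : ℤ, 0 < c → 0 < B - c → ¬ P ∣ c := fun c h1 h2 => nd_lt h1 (lt_of_lt_of_le (by linarith) hPx)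
  have nq : ∀ c : ℤ, 0 < c → 0 < B ^ (2:ℕ) - c → ¬ P ^ (2:ℕ) ∣ c := fun c h1 h2 =>
    nd_lt h1 (lt_of_lt_of_le (by linarith) hP2)
  have n0 : ¬ P ∣ a + 2 := nd _ (by positivity) (by rw [hB]; ring_nf; (clear * - ha; positivity))
  have n1 : ¬ P ∣ (a + 2) - 1 := nd _ (by ring_nf; positivity) (by rw [hB]; ring_nf; (clear * - ha; positivity))
  have n2 : ¬ P ∣ (a + 2) + 1 := nd _ (by ring_nf; positivity) (by rw [hB]; ring_nf; (clear * - ha; positivity))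
  have n3 : ¬ P ∣ (a + 2) ^ (2:ℕ) + (a + 2) + 1 := nd _ (by ring_nf; (clear * - ha; positivity)) (by rw [hB]; ring_nf; (clear * - ha; positivity))
  have n6 : ¬ P ∣ (a + 2) ^ (2:ℕ) - (a + 2) + 1 := nd _ (by ring_nf; (clear * - ha; positivity)) (by rw [hB]; ring_nf; (clear * - ha; positivity))
  have n4 : ¬ P ∣ (a + 2) ^ (2:ℕ) + 1 := nd _ (by ring_nf; (clear * - ha; positivity)) (by rw [hB]; ring_nf; (clear * - ha; positivity))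
  have n5 : ¬ P ∣ (a + 2) ^ (4:ℕ) + (a + 2) ^ (3:ℕ) + (a + 2) ^ (2:ℕ) + (a + 2) + 1 :=
    nd _ (by ring_nf; (clear * - ha; positivity)) (by rw [hB]; ring_nf; positivity)
  have n10 : ¬ P ∣ (a + 2) ^ (4:ℕ) - (a + 2) ^ (3:ℕ) + (a + 2) ^ (2:ℕ) - (a + 2) + 1 :=
    nd _ (by ring_nf; (clear * - ha; positivity)) (by rw [hB]; ring_nf; (clear * - ha; positivity))
  have n8 : ¬ P ∣ (a + 2) ^ (4:ℕ) + 1 := nd _ (by ring_nf; (clear * - ha; positivity)) (by rw [hB]; ring_nf; (clear * - ha; positivity))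
  have n12 : ¬ P ∣ (a + 2) ^ (4:ℕ) - (a + 2) ^ (2:ℕ) + 1 := nd _ (by ring_nf; (clear * - ha; positivity)) (by rw [hB]; ring_nf; (clear * - ha; positivity))
  have nn2 : ¬ P ∣ 2 := nd _ (by norm_num) (by rw [hB]; ring_nf; (clear * - ha; positivity))
  have s7 : ¬ P ^ (2:ℕ) ∣ 1 + (a + 2) + (a + 2) ^ (2:ℕ) + (a + 2) ^ (3:ℕ) + (a + 2) ^ (4:ℕ) + (a + 2) ^ (5:ℕ) + (a + 2) ^ (6:ℕ) :=
    nq _ (by ring_nf; (clear * - ha; positivity)) (by rw [hB]; ring_nf; (clear * - ha; positivity))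
  have s14 : ¬ P ^ (2:ℕ) ∣ 1 - (a + 2) + (a + 2) ^ (2:ℕ) - (a + 2) ^ (3:ℕ) + (a + 2) ^ (4:ℕ) - (a + 2) ^ (5:ℕ) + (a + 2) ^ (6:ℕ) :=
    nq _ (by ring_nf; (clear * - ha; positivity)) (by rw [hB]; ring_nf; (clear * - ha; positivity))
  have s9 : ¬ P ^ (2:ℕ) ∣ 1 + (a + 2) ^ (3:ℕ) + (a + 2) ^ (6:ℕ) :=
    nq _ (by ring_nf; (clear * - ha; positivity)) (by rw [hB]; ring_nf; (clear * - ha; positivity))
  have s18 : ¬ P ^ (2:ℕ) ∣ 1 - (a + 2) ^ (3:ℕ) + (a + 2) ^ (6:ℕ) :=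
    nq _ (by ring_nf; (clear * - ha; positivity)) (by rw [hB]; ring_nf; (clear * - ha; positivity))
  have s15 : ¬ P ^ (2:ℕ) ∣ 1 - (a + 2) + (a + 2) ^ (3:ℕ) - (a + 2) ^ (4:ℕ) + (a + 2) ^ (5:ℕ) - (a + 2) ^ (7:ℕ) + (a + 2) ^ (8:ℕ) :=
    nq _ (by ring_nf; (clear * - ha; positivity)) (by rw [hB]; ring_nf; (clear * - ha; positivity))
  have s30 : ¬ P ^ (2:ℕ) ∣ 1 + (a + 2) - (a + 2) ^ (3:ℕ) - (a + 2) ^ (4:ℕ) - (a + 2) ^ (5:ℕ) + (a + 2) ^ (7:ℕ) + (a + 2) ^ (8:ℕ) :=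
    nq _ (by ring_nf; (clear * - ha; positivity)) (by rw [hB]; ring_nf; (clear * - ha; positivity))
  have s24 : ¬ P ^ (2:ℕ) ∣ 1 - (a + 2) ^ (4:ℕ) + (a + 2) ^ (8:ℕ) :=
    nq _ (by ring_nf; (clear * - ha; positivity)) (by rw [hB]; ring_nf; (clear * - ha; positivity))
  have s20 : ¬ P ^ (2:ℕ) ∣ 1 - (a + 2) ^ (2:ℕ) + (a + 2) ^ (4:ℕ) - (a + 2) ^ (6:ℕ) + (a + 2) ^ (8:ℕ) :=
    nq _ (by ring_nf; (clear * - ha; positivity)) (by rw [hB]; ring_nf; (clear * - ha; positivity))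
  clear_value B
  generalize a + 2 = x at *
  have N2 : ¬ P ∣ x ^ (2:ℕ) - 1 := by
    rw [show x ^ (2:ℕ) - 1 = (x - 1) * (x + 1) by ring]; exact nd_mul hP n1 n2
  have N4 : ¬ P ∣ x ^ (4:ℕ) - 1 := by
    rw [show x ^ (4:ℕ) - 1 = (x ^ (2:ℕ) - 1) * (x ^ (2:ℕ) + 1) by ring]; exact nd_mul hP N2 n4
  have N6 : ¬ P ∣ x ^ (6:ℕ) - 1 := by
    rw [show x ^ (6:ℕ) - 1 = (x ^ (2:ℕ) - 1) * ((x ^ (2:ℕ) + x + 1) * (x ^ (2:ℕ) - x + 1)) by ring]; exact nd_mul hP N2 (nd_mul hP n3 n6)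
  have N8 : ¬ P ∣ x ^ (8:ℕ) - 1 := by
    rw [show x ^ (8:ℕ) - 1 = (x ^ (4:ℕ) - 1) * (x ^ (4:ℕ) + 1) by ring]; exact nd_mul hP N4 n8
  have N10 : ¬ P ∣ x ^ (10:ℕ) - 1 := by
    rw [show x ^ (10:ℕ) - 1 = (x ^ (2:ℕ) - 1) * ((x ^ (4:ℕ) + x ^ (3:ℕ) + x ^ (2:ℕ) + x + 1) * (x ^ (4:ℕ) - x ^ (3:ℕ) + x ^ (2:ℕ) - x + 1)) by (set_option synthInstance.maxSize 99999 in exact Cfsg.Agent.Lib.RingK.eq (by decide +kernel))]
    exact nd_mul hP N2 (nd_mul hP n5 n10)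
  have N12 : ¬ P ∣ x ^ (12:ℕ) - 1 := by
    rw [show x ^ (12:ℕ) - 1 = (x ^ (6:ℕ) - 1) * ((x ^ (2:ℕ) + 1) * (x ^ (4:ℕ) - x ^ (2:ℕ) + 1)) by ring]
    exact nd_mul hP N6 (nd_mul hP n4 n12)
  have sq : ∀ {a : ℤ}, ¬ P ∣ a → ¬ P ^ (2:ℕ) ∣ a := fun ha h => ha ((dvd_pow_self P two_ne_zero).trans h)
  have two : ∀ {m : ℕ} {b c : ℤ}, b ∣ x ^ m - 1 → c ∣ x ^ m + 1 → P ∣ b → P ∣ c → False := fun hb hc h1 h2 => by
    have h3 := dvd_sub (h2.trans hc) (h1.trans hb)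
    rw [show ∀ y : ℤ, y + 1 - (y - 1) = 2 from fun y => by ring] at h3
    exact nn2 h3
  have S14 : ¬ P ^ (2:ℕ) ∣ x ^ (14:ℕ) - 1 := by
    rw [show x ^ (14:ℕ) - 1 = (x ^ (2:ℕ) - 1) * ((1 + x + x ^ (2:ℕ) + x ^ (3:ℕ) + x ^ (4:ℕ) + x ^ (5:ℕ) + x ^ (6:ℕ)) * (1 - x + x ^ (2:ℕ) - x ^ (3:ℕ) + x ^ (4:ℕ) - x ^ (5:ℕ) + x ^ (6:ℕ))) by (set_option synthInstance.maxSize 99999 in exact Cfsg.Agent.Lib.RingK.eq (by decide +kernel))]
    exact not_sq hP N2 (not_sq2 hP (two (m := 7) ⟨x - 1, by ring⟩ ⟨x + 1, by ring⟩) s7 s14)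
  have S18 : ¬ P ^ (2:ℕ) ∣ x ^ (18:ℕ) - 1 := by
    rw [show x ^ (18:ℕ) - 1 = (x ^ (6:ℕ) - 1) * ((1 + x ^ (3:ℕ) + x ^ (6:ℕ)) * (1 - x ^ (3:ℕ) + x ^ (6:ℕ))) by ring]
    exact not_sq hP N6 (not_sq2 hP (two (m := 9) ⟨x ^ (3:ℕ) - 1, by ring⟩ ⟨x ^ (3:ℕ) + 1, by ring⟩) s9 s18)
  have S20 : ¬ P ^ (2:ℕ) ∣ x ^ (20:ℕ) - 1 := by
    rw [show x ^ (20:ℕ) - 1 = ((x ^ (10:ℕ) - 1) * (x ^ (2:ℕ) + 1)) * (1 - x ^ (2:ℕ) + x ^ (4:ℕ) - x ^ (6:ℕ) + x ^ (8:ℕ)) by ring]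
    exact not_sq hP (nd_mul hP N10 n4) s20
  have S24 : ¬ P ^ (2:ℕ) ∣ x ^ (24:ℕ) - 1 := by
    rw [show x ^ (24:ℕ) - 1 = ((x ^ (12:ℕ) - 1) * (x ^ (4:ℕ) + 1)) * (1 - x ^ (4:ℕ) + x ^ (8:ℕ)) by ring]
    exact not_sq hP (nd_mul hP N12 n8) s24
  have S30 : ¬ P ^ (2:ℕ) ∣ x ^ (30:ℕ) - 1 := by
    rw [show x ^ (30:ℕ) - 1 = ((x ^ (10:ℕ) - 1) * ((x ^ (2:ℕ) + x + 1) * (x ^ (2:ℕ) - x + 1))) * ((1 - x + x ^ (3:ℕ) - x ^ (4:ℕ) + x ^ (5:ℕ) - x ^ (7:ℕ) + x ^ (8:ℕ)) * (1 + x - x ^ (3:ℕ) - x ^ (4:ℕ) - x ^ (5:ℕ) + x ^ (7:ℕ) + x ^ (8:ℕ))) by (set_option synthInstance.maxSize 99999 in exact Cfsg.Agent.Lib.RingK.eq (by decide +kernel))]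
    exact not_sq hP (nd_mul hP N10 (nd_mul hP n3 n6)) (not_sq2 hP (two (m := 15)
      ⟨(x ^ (5:ℕ) - 1) * (x ^ (2:ℕ) + x + 1), by (set_option synthInstance.maxSize 99999 in exact Cfsg.Agent.Lib.RingK.eq (by decide +kernel))⟩ ⟨(x ^ (5:ℕ) + 1) * (x ^ (2:ℕ) - x + 1), by (set_option synthInstance.maxSize 99999 in exact Cfsg.Agent.Lib.RingK.eq (by decide +kernel))⟩) s15 s30)
  have e : P8 x = x ^ (120:ℕ) * (([30, 24, 20, 18, 14, 12, 8, 2] : List ℕ).map fun d => x ^ d - 1).prod := by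
    simp only [P8, List.map_cons, List.map_nil, List.prod_cons, List.prod_nil]; (set_option synthInstance.maxSize 99999 in exact Cfsg.Agent.Lib.RingK.eq (by decide +kernel))
  rw [e] at h
  refine not_sq hP (nd_pow hP n0 _) (not_sq_list hP _ ?_ ?_) h
  · simp only [List.mem_cons, forall_eq_or_imp, List.not_mem_nil, false_imp_iff, implies_true, and_true]
    exact ⟨S30, S24, S20, S18, S14, sq N12, sq N8, sq N2⟩
  · simp only [List.pairwise_cons, List.mem_cons, forall_eq_or_imp, List.not_mem_nil, false_imp_iff, implies_true,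
      and_true, List.Pairwise.nil]
    norm_num only [_root_.and_self, _root_.and_self_left, _root_.and_self_right]
    (clear * - N2 N4 N6 N8 N10 N12; tauto)

set_option maxHeartbeats 4000000
set_option maxRecDepth 100000

theorem w24 (x : ℤ) : ∃ M : ℤ, P8 x = (1 - x ^ (4:ℕ) + x ^ (8:ℕ)) * M ∧ (1 - x ^ (4:ℕ) + x ^ (8:ℕ)) ∣ M - 24 :=
  ⟨x ^ (120:ℕ) * (x ^ (30:ℕ) - 1) * ((x ^ (12:ℕ) - 1) * (x ^ (4:ℕ) + 1)) * (x ^ (20:ℕ) - 1) * (x ^ (18:ℕ) - 1) * (x ^ (14:ℕ) - 1) * (x ^ (12:ℕ) - 1) * (x ^ (8:ℕ) - 1) * (x ^ (2:ℕ) - 1), by unfold P8; (set_option synthInstance.maxSize 99999 in exact Cfsg.Agent.Lib.RingK.eq (by decide +kernel)), ⟨-24 - 24 * x ^ (4:ℕ) + 24 * x ^ (12:ℕ) + 24 * x ^ (16:ℕ) - 24 * x ^ (24:ℕ) - 24 * x ^ (28:ℕ) + 24 * x ^ (36:ℕ) + 24 * x ^ (40:ℕ) - 24 * x ^ (48:ℕ) - 24 * x ^ (52:ℕ) + 24 * x ^ (60:ℕ) + 24 * x ^ (64:ℕ) - 24 * x ^ (72:ℕ) -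 24 * x ^ (76:ℕ) + 24 * x ^ (84:ℕ) + 24 * x ^ (88:ℕ) - 24 * x ^ (96:ℕ) - 24 * x ^ (100:ℕ) + 24 * x ^ (108:ℕ) + 24 * x ^ (112:ℕ) - 23 * x ^ (120:ℕ) - x ^ (122:ℕ) - 22 * x ^ (124:ℕ) - 2 * x ^ (126:ℕ) + 19 * x ^ (132:ℕ) + 4 * x ^ (134:ℕ) + 18 * x ^ (136:ℕ) + 4 * x ^ (138:ℕ) + 2 * x ^ (140:ℕ) - x ^ (142:ℕ) - 14 * x ^ (144:ℕ) - 3 * x ^ (146:ℕ) - 18 * x ^ (148:ℕ) - 5 * x ^ (152:ℕ) + 15 * x ^ (156:ℕ) - 4 * x ^ (158:ℕ) + 19 * x ^ (160:ℕ) - 2 * x ^ (162:ℕ) + 5 * x ^ (166:ℕ) - 18 * x ^ (168:ℕ) + 4 * x ^ (170:ℕ) - 12 * x ^ (172:ℕ) - 4 * x ^ (174:ℕ) + 6 * x ^ (176:ℕ) - 4 * x ^ (178:ℕ) + 12 * x ^ (180:ℕ) + 4 * x ^ (182:ℕ) + 6 * x ^ (184:ℕ) + 5 * x ^ (186:ℕ) - 2 * x ^ (190:ℕ) - 5 * x ^ (192:ℕ) - 4 * x ^ (194:ℕ) - 9 * x ^ (196:ℕ) - 5 * x ^ (200:ℕ) + 6 * x ^ (204:ℕ) - 3 * x ^ (206:ℕ) + 10 * x ^ (208:ℕ) - x ^ (210:ℕ) + 2 * x ^ (212:ℕ) + 4 * x ^ (214:ℕ) - 6 *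 x ^ (216:ℕ) + 4 * x ^ (218:ℕ) - 5 * x ^ (220:ℕ) - 2 * x ^ (226:ℕ) + 2 * x ^ (228:ℕ) - x ^ (230:ℕ) + x ^ (232:ℕ), by (set_option synthInstance.maxSize 99999 in exact Cfsg.Agent.Lib.RingK.eq (by decide +kernel))⟩⟩

theorem w30 (x : ℤ) : ∃ M : ℤ, P8 x = (1 + x - x ^ (3:ℕ) - x ^ (4:ℕ) - x ^ (5:ℕ) + x ^ (7:ℕ) + x ^ (8:ℕ)) * M ∧ (1 + x - x ^ (3:ℕ) - x ^ (4:ℕ) - x ^ (5:ℕ) + x ^ (7:ℕ) + x ^ (8:ℕ)) ∣ M - 30 :=
  ⟨x ^ (120:ℕ) * ((x ^ (15:ℕ) - 1) * ((x ^ (5:ℕ) + 1) * (x ^ (2:ℕ) - x + 1))) * (x ^ (24:ℕ) - 1) * (x ^ (20:ℕ) - 1) * (x ^ (18:ℕ) - 1) * (x ^ (14:ℕ) - 1) * (x ^ (12:ℕ) - 1) * (x ^ (8:ℕ) - 1) * (x ^ (2:ℕ) - 1), by unfold P8; (set_option synthInstance.maxSize 99999 in exact Cfsg.Agent.Lib.RingK.eq (by decide +kernel)), ⟨-30 + 30 * x - 30 * x ^ (2:ℕ) - 30 * x ^ (5:ℕ) + 30 * x ^ (6:ℕ) - 30 * x ^ (7:ℕ) + 30 * x ^ (15:ℕ) - 30 * x ^ (16:ℕ) + 30 * x ^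 (17:ℕ) + 30 * x ^ (20:ℕ) - 30 * x ^ (21:ℕ) + 30 * x ^ (22:ℕ) - 30 * x ^ (30:ℕ) + 30 * x ^ (31:ℕ) - 30 * x ^ (32:ℕ) - 30 * x ^ (35:ℕ) + 30 * x ^ (36:ℕ) - 30 * x ^ (37:ℕ) + 30 * x ^ (45:ℕ) - 30 * x ^ (46:ℕ) + 30 * x ^ (47:ℕ) + 30 * x ^ (50:ℕ) - 30 * x ^ (51:ℕ) + 30 * x ^ (52:ℕ) - 30 * x ^ (60:ℕ) + 30 * x ^ (61:ℕ) - 30 * x ^ (62:ℕ) - 30 * x ^ (65:ℕ) + 30 * x ^ (66:ℕ) - 30 * x ^ (67:ℕ) + 30 * x ^ (75:ℕ) - 30 * x ^ (76:ℕ) + 30 * x ^ (77:ℕ) + 30 * x ^ (80:ℕ) - 30 * x ^ (81:ℕ) + 30 * x ^ (82:ℕ) - 30 * x ^ (90:ℕ) + 30 * x ^ (91:ℕ) - 30 * x ^ (92:ℕ) - 30 * x ^ (95:ℕ) + 30 * x ^ (96:ℕ) - 30 * x ^ (97:ℕ) + 30 * x ^ (105:ℕ) - 30 * x ^ (106:ℕ) + 30 * x ^ (107:ℕ) + 30 * x ^ (110:ℕ) - 30 * x ^ (111:ℕ) + 30 * x ^ (112:ℕ) - 29 * x ^ (120:ℕ) + 28 * x ^ (121:ℕ) - 28 * x ^ (122:ℕ) - 2 * x ^ (124:ℕ) - 26 * x ^ (125:ℕ) + 25 * x ^ (126:ℕ) - 26 * x ^ (127:ℕ) - x ^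 (128:ℕ) - 2 * x ^ (129:ℕ) + 3 * x ^ (130:ℕ) - 4 * x ^ (131:ℕ) + 3 * x ^ (132:ℕ) - 2 * x ^ (133:ℕ) + 28 * x ^ (135:ℕ) - 27 * x ^ (136:ℕ) + 26 * x ^ (137:ℕ) + x ^ (138:ℕ) + 2 * x ^ (139:ℕ) + 23 * x ^ (140:ℕ) - 20 * x ^ (141:ℕ) + 22 * x ^ (142:ℕ) + 2 * x ^ (143:ℕ) + 4 * x ^ (144:ℕ) - 4 * x ^ (145:ℕ) + 6 * x ^ (146:ℕ) - 4 * x ^ (147:ℕ) + 4 * x ^ (148:ℕ) - 25 * x ^ (150:ℕ) + 26 * x ^ (151:ℕ) - 26 * x ^ (152:ℕ) + 2 * x ^ (153:ℕ) - 3 * x ^ (154:ℕ) - 20 * x ^ (155:ℕ) + 16 * x ^ (156:ℕ) - 18 * x ^ (157:ℕ) - 4 * x ^ (158:ℕ) - 4 * x ^ (159:ℕ) + 4 * x ^ (160:ℕ) - 8 * x ^ (161:ℕ) + 4 * x ^ (162:ℕ) - 6 * x ^ (163:ℕ) + x ^ (164:ℕ) + 18 * x ^ (165:ℕ) - 21 * x ^ (166:ℕ) + 22 * x ^ (167:ℕ) - 6 * x ^ (168:ℕ) + 6 * x ^ (169:ℕ) + 14 * x ^ (170:ℕ) - 12 * x ^ (171:ℕ) + 15 * x ^ (172:ℕ) + 2 * x ^ (173:ℕ) + 6 * x ^ (174:ℕ) - 6 * x ^ (175:ℕ) + 12 * x ^ (176:ℕ) - 6 *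 x ^ (177:ℕ) + 6 * x ^ (178:ℕ) + 2 * x ^ (179:ℕ) - 15 * x ^ (180:ℕ) + 18 * x ^ (181:ℕ) - 16 * x ^ (182:ℕ) + 6 * x ^ (183:ℕ) - 6 * x ^ (184:ℕ) - 8 * x ^ (185:ℕ) + 9 * x ^ (186:ℕ) - 12 * x ^ (187:ℕ) + x ^ (188:ℕ) - 6 * x ^ (189:ℕ) + 4 * x ^ (190:ℕ) - 8 * x ^ (191:ℕ) + 4 * x ^ (192:ℕ) - 4 * x ^ (193:ℕ) - 4 * x ^ (194:ℕ) + 12 * x ^ (195:ℕ) - 14 * x ^ (196:ℕ) + 10 * x ^ (197:ℕ) - 3 * x ^ (198:ℕ) + 2 * x ^ (199:ℕ) + 4 * x ^ (200:ℕ) - 4 * x ^ (201:ℕ) + 5 * x ^ (202:ℕ) + 4 * x ^ (204:ℕ) - 4 * x ^ (205:ℕ) + 6 * x ^ (206:ℕ) - 4 * x ^ (207:ℕ) + 4 * x ^ (208:ℕ) + 2 * x ^ (209:ℕ) - 8 * x ^ (210:ℕ) + 10 * x ^ (211:ℕ) - 7 * x ^ (212:ℕ) + 2 * x ^ (213:ℕ) + x ^ (214:ℕ) - 4 * x ^ (215:ℕ) + 3 * x ^ (216:ℕ) - 2 * x ^ (217:ℕ) - 2 * x ^ (219:ℕ) + 3 * x ^ (220:ℕ) - 4 * x ^ (221:ℕ) + 3 * x ^ (222:ℕ) - 2 * x ^ (223:ℕ) - x ^ (224:ℕ) + 4 * x ^ (225:ℕ) - 5 * x ^ (226:ℕ)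 + 4 * x ^ (227:ℕ) - 2 * x ^ (228:ℕ) + 2 * x ^ (230:ℕ) - 2 * x ^ (231:ℕ) + x ^ (232:ℕ), by (set_option synthInstance.maxSize 99999 in exact Cfsg.Agent.Lib.RingK.eq (by decide +kernel))⟩⟩

theorem w15 (x : ℤ) : ∃ M : ℤ, P8 x = (1 - x + x ^ (3:ℕ) - x ^ (4:ℕ) + x ^ (5:ℕ) - x ^ (7:ℕ) + x ^ (8:ℕ)) * M ∧ (1 - x + x ^ (3:ℕ) - x ^ (4:ℕ) + x ^ (5:ℕ) - x ^ (7:ℕ) + x ^ (8:ℕ)) ∣ M - 30 :=
  ⟨x ^ (120:ℕ) * ((x ^ (15:ℕ) + 1) * ((x ^ (5:ℕ) - 1) * (x ^ (2:ℕ) + x + 1))) * (x ^ (24:ℕ) - 1) * (x ^ (20:ℕ) - 1) * (x ^ (18:ℕ) - 1) * (x ^ (14:ℕ) - 1) * (x ^ (12:ℕ) - 1) * (x ^ (8:ℕ) - 1) * (x ^ (2:ℕ) - 1), by unfold P8; (set_option synthInstance.maxSize 99999 in exact Cfsg.Agent.Lib.RingK.eq (by decide +kernel)), ⟨-30 - 30 * x - 30 * x ^ (2:ℕ) + 30 * x ^ (5:ℕ) + 30 * x ^ (6:ℕ) + 30 * x ^ (7:ℕ) - 30 * x ^ (15:ℕ) - 30 * x ^ (16:ℕ) - 30 * x ^ (17:ℕ) + 30 * x ^ (20:ℕ) +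 30 * x ^ (21:ℕ) + 30 * x ^ (22:ℕ) - 30 * x ^ (30:ℕ) - 30 * x ^ (31:ℕ) - 30 * x ^ (32:ℕ) + 30 * x ^ (35:ℕ) + 30 * x ^ (36:ℕ) + 30 * x ^ (37:ℕ) - 30 * x ^ (45:ℕ) - 30 * x ^ (46:ℕ) - 30 * x ^ (47:ℕ) + 30 * x ^ (50:ℕ) + 30 * x ^ (51:ℕ) + 30 * x ^ (52:ℕ) - 30 * x ^ (60:ℕ) - 30 * x ^ (61:ℕ) - 30 * x ^ (62:ℕ) + 30 * x ^ (65:ℕ) + 30 * x ^ (66:ℕ) + 30 * x ^ (67:ℕ) - 30 * x ^ (75:ℕ) - 30 * x ^ (76:ℕ) - 30 * x ^ (77:ℕ) + 30 * x ^ (80:ℕ) + 30 * x ^ (81:ℕ) + 30 * x ^ (82:ℕ) - 30 * x ^ (90:ℕ) - 30 * x ^ (91:ℕ) - 30 * x ^ (92:ℕ) + 30 * x ^ (95:ℕ) + 30 * x ^ (96:ℕ) + 30 * x ^ (97:ℕ) - 30 * x ^ (105:ℕ) - 30 * x ^ (106:ℕ) - 30 * x ^ (107:ℕ) + 30 * x ^ (110:ℕ) + 30 * x ^ (111:ℕ) + 30 * x ^ (112:ℕ) - 29 * x ^ (120:ℕ) - 28 * x ^ (121:ℕ) - 28 * x ^ (122:ℕ) - 2 * x ^ (124:ℕ) + 26 * x ^ (125:ℕ) + 25 * x ^ (126:ℕ) + 26 * x ^ (127:ℕ) - x ^ (128:ℕ) + 2 * x ^ (129:ℕ) +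 3 * x ^ (130:ℕ) + 4 * x ^ (131:ℕ) + 3 * x ^ (132:ℕ) + 2 * x ^ (133:ℕ) - 28 * x ^ (135:ℕ) - 27 * x ^ (136:ℕ) - 26 * x ^ (137:ℕ) + x ^ (138:ℕ) - 2 * x ^ (139:ℕ) + 23 * x ^ (140:ℕ) + 20 * x ^ (141:ℕ) + 22 * x ^ (142:ℕ) - 2 * x ^ (143:ℕ) + 4 * x ^ (144:ℕ) + 4 * x ^ (145:ℕ) + 6 * x ^ (146:ℕ) + 4 * x ^ (147:ℕ) + 4 * x ^ (148:ℕ) - 25 * x ^ (150:ℕ) - 26 * x ^ (151:ℕ) - 26 * x ^ (152:ℕ) - 2 * x ^ (153:ℕ) - 3 * x ^ (154:ℕ) + 20 * x ^ (155:ℕ) + 16 * x ^ (156:ℕ) + 18 * x ^ (157:ℕ) - 4 * x ^ (158:ℕ) + 4 * x ^ (159:ℕ) + 4 * x ^ (160:ℕ) + 8 * x ^ (161:ℕ) + 4 * x ^ (162:ℕ) + 6 * x ^ (163:ℕ) + x ^ (164:ℕ) - 18 * x ^ (165:ℕ) - 21 * x ^ (166:ℕ) - 22 * x ^ (167:ℕ) - 6 * x ^ (168:ℕ) - 6 * x ^ (169:ℕ) + 14 * x ^ (170:ℕ) + 12 * x ^ (171:ℕ) + 15 * x ^ (172:ℕ) - 2 * x ^ (173:ℕ) + 6 * x ^ (174:ℕ) + 6 * x ^ (175:ℕ) + 12 * x ^ (176:ℕ) + 6 * x ^ (177:ℕ) + 6 * x ^ (178:ℕ)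 - 2 * x ^ (179:ℕ) - 15 * x ^ (180:ℕ) - 18 * x ^ (181:ℕ) - 16 * x ^ (182:ℕ) - 6 * x ^ (183:ℕ) - 6 * x ^ (184:ℕ) + 8 * x ^ (185:ℕ) + 9 * x ^ (186:ℕ) + 12 * x ^ (187:ℕ) + x ^ (188:ℕ) + 6 * x ^ (189:ℕ) + 4 * x ^ (190:ℕ) + 8 * x ^ (191:ℕ) + 4 * x ^ (192:ℕ) + 4 * x ^ (193:ℕ) - 4 * x ^ (194:ℕ) - 12 * x ^ (195:ℕ) - 14 * x ^ (196:ℕ) - 10 * x ^ (197:ℕ) - 3 * x ^ (198:ℕ) - 2 * x ^ (199:ℕ) + 4 * x ^ (200:ℕ) + 4 * x ^ (201:ℕ) + 5 * x ^ (202:ℕ) + 4 * x ^ (204:ℕ) + 4 * x ^ (205:ℕ) + 6 * x ^ (206:ℕ) + 4 * x ^ (207:ℕ) + 4 * x ^ (208:ℕ) - 2 * x ^ (209:ℕ) - 8 * x ^ (210:ℕ) - 10 * x ^ (211:ℕ) - 7 * x ^ (212:ℕ) - 2 * x ^ (213:ℕ) + x ^ (214:ℕ) + 4 * x ^ (215:ℕ) + 3 * x ^ (216:ℕ) + 2 * x ^ (217:ℕ) + 2 * x ^ (219:ℕ) + 3 * x ^ (220:ℕ) + 4 * x ^ (221:ℕ) + 3 * x ^ (222:ℕ) + 2 * x ^ (223:ℕ) - x ^ (224:ℕ) - 4 * x ^ (225:ℕ) - 5 * x ^ (226:ℕ) - 4 * x ^ (227:ℕ) - 2 * x ^ (228:ℕ)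 + 2 * x ^ (230:ℕ) + 2 * x ^ (231:ℕ) + x ^ (232:ℕ), by (set_option synthInstance.maxSize 99999 in exact Cfsg.Agent.Lib.RingK.eq (by decide +kernel))⟩⟩

end Cfsg.Agent.H92.PRegE8
end

-- part: H92/PRegE8R
section
/-!
# `E₈(q)`: the row (helper92, for S4883)
-/

set_option autoImplicit false
set_option linter.unusedSectionVars false

namespace Cfsg.Agent.H92.PRegE8

open Cfsg.Agent.H93.PReg Cfsg.Agent.H92.PRegT Cfsg.Agent.H92.KTools Cfsg.Agent.H92.PRegNum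

theorem coprime_24_30 {x P : ℤ} (hP : Prime P) (h1 : P ∣ 1 - x ^ (4:ℕ) + x ^ (8:ℕ)) (h2 : P ∣ 1 + x - x ^ (3:ℕ) - x ^ (4:ℕ) - x ^ (5:ℕ) + x ^ (7:ℕ) + x ^ (8:ℕ)) : False := by
  have h9 := dvd_add (h1.mul_right (1 + x + x ^ (2:ℕ) - x ^ (5:ℕ) - x ^ (6:ℕ) - x ^ (7:ℕ))) (h2.mul_right (-x + x ^ (5:ℕ) + x ^ (7:ℕ)))
  rw [show (1 - x ^ (4:ℕ) + x ^ (8:ℕ)) * (1 + x + x ^ (2:ℕ) - x ^ (5:ℕ) - x ^ (6:ℕ) - x ^ (7:ℕ)) + (1 + x - x ^ (3:ℕ) - x ^ (4:ℕ) - x ^ (5:ℕ) + x ^ (7:ℕ) + x ^ (8:ℕ)) * (-x + x ^ (5:ℕ) + x ^ (7:ℕ)) = 1 by (set_option synthInstance.maxSize 99999 in exact Cfsg.Agent.Lib.RingK.eq (by decide +kernel))] at h9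
  exact hP.not_dvd_one h9

variable {S : Type*} [Group S] [Finite S]

theorem modw {q N w : ℕ} {x : ℤ} (hq : x = q) (hN0 : 0 < N) (hcard : (Nat.card S : ℤ) = P8 q)
    (h : ∃ M : ℤ, P8 x = (N : ℤ) * M ∧ (N : ℤ) ∣ M - w) : Nat.card S / N ≡ w [MOD N] := by
  obtain ⟨M, h1, h2⟩ := h
  subst hq
  exact modEq_of_int (M := M) hN0 (by rw [hcard, h1]) h2

/-- `E₈(2)` -/
theorem two (hcard : (Nat.card S : ℤ) = P8 2) (hout : Nat.card (Cfsg.Out S) = 1)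
    (h24 : Iso S 241 241) (h30 : Iso S 331 331) (h15 : Iso S 151 151) : Row S := by
  have hc : Nat.card S = 337804753143634806261388190614085595079991692242467651576160959909068800000 := by
    have : ((Nat.card S : ℕ) : ℤ) = ((337804753143634806261388190614085595079991692242467651576160959909068800000 : ℕ) : ℤ) := by rw [hcard]; norm_num [P8]
    exact_mod_cast this
  have t24 : MO {k | k ∣ 241 ∧ k ≠ 1} 10 S :=
    h24.mo' (modw (q := 2) (x := 2) rfl (by norm_num) (by exact_mod_cast hcard) (by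
      obtain ⟨M, h1, h2⟩ := w24 2
      norm_num only [] at h1 h2 ⊢
      exact ⟨M, h1, h2⟩)) hout.le dvd_rfl (by norm_num)
  have t30 : MO {k | k ∣ 331 ∧ k ≠ 1} 11 S :=
    h30.mo' (modw (q := 2) (x := 2) rfl (by norm_num) (by exact_mod_cast hcard) (by
      obtain ⟨M, h1, h2⟩ := w30 2
      norm_num only [] at h1 h2 ⊢
      exact ⟨M, h1, h2⟩)) hout.le dvd_rfl (by norm_num)
  have t15 : MO {k | k ∣ 151 ∧ k ≠ 1} 5 S :=
    h15.mo' (modw (q := 2) (x := 2) rfl (by norm_num) (by exact_mod_cast hcard) (by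
      obtain ⟨M, h1, h2⟩ := w15 2
      norm_num only [] at h1 h2 ⊢
      exact ⟨M, h1, h2⟩)) hout.le dvd_rfl (by norm_num)
  intro p hp h5 hd
  have hP : Prime (p : ℤ) := Nat.prime_iff_prime_int.1 hp
  have hd' : (p : ℤ) ^ (2:ℕ) ∣ P8 2 := by rw [← hcard]; exact_mod_cast hd
  have hb : p ≤ 31 := by
    have := bound le_rfl hP hd'
    norm_num at this
    exact_mod_cast this
  have hne : ∀ k : ℕ, k.Prime → 31 < k → ¬ p ∣ k := fun k hk hlt h => by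
    have := (Nat.prime_dvd_prime_iff_eq hp hk).1 h
    omega
  by_cases h21 : p ≤ 21
  · exact reg_add2 (by norm_num) (hne _ (by norm_num) (by norm_num)) (hne _ (by norm_num) (by norm_num)) t24 t30 ∅
      (by simp) (by simp) (by simp) (by simp) (by simpa using h21)
  · have h31 : p = 31 := by
      rw [hc] at hd
      interval_cases p
      · exact absurd hp (by norm_num)
      · exact absurd hd (by norm_num)
      · exact absurd hp (by norm_num)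
      · exact absurd hp (by norm_num)
      · exact absurd hp (by norm_num)
      · exact absurd hp (by norm_num)
      · exact absurd hp (by norm_num)
      · exact absurd hd (by norm_num)
      · exact absurd hp (by norm_num)
      · rfl
    subst h31
    have hL : ∀ k ∈ ({1, 2, 3, 7, 13} : Finset ℕ), HasOrd S k := ords hc _ (by
      simp only [Finset.mem_insert, Finset.mem_singleton, forall_eq_or_imp, forall_eq]
      norm_num)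
    have m1 : MO ({k | k ∣ 241 ∧ k ≠ 1} ∪ {k | k ∣ 331 ∧ k ≠ 1}) 21 S := MO.add (by
      rw [Set.disjoint_left]
      intro k hk hk2
      exact hk.2 (Nat.dvd_one.1 ((show Nat.gcd 241 331 = 1 by norm_num) ▸ Nat.dvd_gcd hk.1 hk2.1))) t24 t30
    have m3 : MO {k | ¬ 31 ∣ k ∧ k ∈ ({1, 2, 3, 7, 13} : Finset ℕ)} 5 S :=
      (MO.of_finset (A := {k | ¬ 31 ∣ k ∧ k ∈ ({1, 2, 3, 7, 13} : Finset ℕ)}) {1, 2, 3, 7, 13} hL
        (fun k hk => ⟨by revert k; decide, hk⟩)).mono (fun _ h => h) (by decide)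
    have m2 : MO ({k | k ∣ 151 ∧ k ≠ 1} ∪ {k | ¬ 31 ∣ k ∧ k ∈ ({1, 2, 3, 7, 13} : Finset ℕ)}) 10 S := MO.add (by
      rw [Set.disjoint_left]
      intro k hk hk2
      have h1 := hk2.2
      have h2 := hk.1
      have h3 := hk.2
      simp only [Finset.mem_insert, Finset.mem_singleton] at h1
      rcases h1 with rfl | rfl | rfl | rfl | rfl
      · exact h3 rfl
      all_goals exact absurd h2 (by norm_num)) t15 m3
    refine (MO.add ?_ m1 m2).mono ?_ (by norm_num)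
    · rw [Set.disjoint_left]
      rintro k (hk | hk) (hk2 | hk2)
      · exact hk.2 (Nat.dvd_one.1 ((show Nat.gcd 241 151 = 1 by norm_num) ▸ Nat.dvd_gcd hk.1 hk2.1))
      · have h1 := hk2.2
        have h2 := hk.1
        have h3 := hk.2
        simp only [Finset.mem_insert, Finset.mem_singleton] at h1
        rcases h1 with rfl | rfl | rfl | rfl | rfl
        · exact h3 rfl
        all_goals exact absurd h2 (by norm_num)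
      · exact hk.2 (Nat.dvd_one.1 ((show Nat.gcd 331 151 = 1 by norm_num) ▸ Nat.dvd_gcd hk.1 hk2.1))
      · have h1 := hk2.2
        have h2 := hk.1
        have h3 := hk.2
        simp only [Finset.mem_insert, Finset.mem_singleton] at h1
        rcases h1 with rfl | rfl | rfl | rfl | rfl
        · exact h3 rfl
        all_goals exact absurd h2 (by norm_num)
    · rintro k ((hk | hk) | (hk | hk))
      · exact fun hd => absurd (hd.trans hk.1) (by norm_num)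
      · exact fun hd => absurd (hd.trans hk.1) (by norm_num)
      · exact fun hd => absurd (hd.trans hk.1) (by norm_num)
      · exact hk.1

/-- **the row of `E₈(q)`** -/
theorem row {q ℓ f N24 N30 N15 : ℕ} (hℓ : ℓ.Prime) (hf : 1 ≤ f) (hq : q = ℓ ^ f)
    (hcard : (Nat.card S : ℤ) = P8 q) (hout : Nat.card (Cfsg.Out S) = f)
    (hN24 : (N24 : ℤ) = 1 - (q : ℤ) ^ (4:ℕ) + (q : ℤ) ^ (8:ℕ)) (hN30 : (N30 : ℤ) = 1 + (q : ℤ) - (q : ℤ) ^ (3:ℕ) - (q : ℤ) ^ (4:ℕ) - (q : ℤ) ^ (5:ℕ) + (q : ℤ) ^ (7:ℕ) + (q : ℤ) ^ (8:ℕ))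
    (hN15 : (N15 : ℤ) = 1 - (q : ℤ) + (q : ℤ) ^ (3:ℕ) - (q : ℤ) ^ (4:ℕ) + (q : ℤ) ^ (5:ℕ) - (q : ℤ) ^ (7:ℕ) + (q : ℤ) ^ (8:ℕ))
    (h24 : Iso S N24 N24) (h30 : Iso S N30 N30) (h15 : Iso S N15 N15) : Row S := by
  have hq2 := two_le_of hℓ hf hq
  have hfq : 2 ^ f ≤ q := by rw [hq]; exact Nat.pow_le_pow_left hℓ.two_le f
  have hfq' : f + 1 ≤ q := (lt_two_pow' f).trans hfq
  by_cases h2 : q = 2
  · subst h2
    have hf1 : f = 1 := by omega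
    subst hf1
    have e1 : N24 = 241 := by
      have : (N24 : ℤ) = 241 := by rw [hN24]; norm_num
      exact_mod_cast this
    have e2 : N30 = 331 := by
      have : (N30 : ℤ) = 331 := by rw [hN30]; norm_num
      exact_mod_cast this
    have e3 : N15 = 151 := by
      have : (N15 : ℤ) = 151 := by rw [hN15]; norm_num
      exact_mod_cast this
    subst e1 e2 e3
    exact two (by exact_mod_cast hcard) hout h24 h30 h15
  have hq3 : 3 ≤ q := by (clear * - hq2 h2; omega)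
  have h27 : 27 ≤ q ^ (3:ℕ) := by
    calc 27 = 3 ^ (3:ℕ) := by norm_num
      _ ≤ q ^ (3:ℕ) := Nat.pow_le_pow_left hq3 3
  have h9 : 9 ≤ q ^ (2:ℕ) := by
    calc 9 = 3 ^ (2:ℕ) := by norm_num
      _ ≤ q ^ (2:ℕ) := Nat.pow_le_pow_left hq3 2
  have h58 : 27 * q ^ (5:ℕ) ≤ q ^ (8:ℕ) := by
    calc 27 * q ^ (5:ℕ) ≤ q ^ (3:ℕ) * q ^ (5:ℕ) := by gcongr
      _ = q ^ (8:ℕ) := by ring
  have h57 : 9 * q ^ (5:ℕ) ≤ q ^ (7:ℕ) := by
    calc 9 * q ^ (5:ℕ) ≤ q ^ (2:ℕ) * q ^ (5:ℕ) := by gcongr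
      _ = q ^ (7:ℕ) := by ring
  have h45 : 3 * q ^ (4:ℕ) ≤ q ^ (5:ℕ) := by
    calc 3 * q ^ (4:ℕ) ≤ q * q ^ (4:ℕ) := by gcongr
      _ = q ^ (5:ℕ) := by ring
  have h34 : 3 * q ^ (3:ℕ) ≤ q ^ (4:ℕ) := by
    calc 3 * q ^ (3:ℕ) ≤ q * q ^ (3:ℕ) := by gcongr
      _ = q ^ (4:ℕ) := by ring
  have hpos : 0 < q ^ (3:ℕ) := by positivity
  have hmul : (q ^ (4:ℕ) + q ^ (3:ℕ) + q ^ (2:ℕ) + q) * f + q ≤ q ^ (5:ℕ) := by
    obtain ⟨a, rfl⟩ : ∃ a, q = a + 1 := ⟨q - 1, by (clear * - hq3; omega)⟩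
    have hfa : f ≤ a := by omega
    calc _ ≤ ((a + 1) ^ (4:ℕ) + (a + 1) ^ (3:ℕ) + (a + 1) ^ (2:ℕ) + (a + 1)) * a + (a + 1) := by gcongr
      _ = _ := by (set_option synthInstance.maxSize 99999 in exact Cfsg.Agent.Lib.RingK.eqN (by decide +kernel))
  have e24 : N24 + q ^ (4:ℕ) = q ^ (8:ℕ) + 1 := by
    have : ((N24 + q ^ 4 : ℕ) : ℤ) = ((q ^ (8:ℕ) + 1 : ℕ) : ℤ) := by push_cast; rw [hN24]; ring
    exact_mod_cast this
  have e30 : N30 + q ^ (5:ℕ) + q ^ (4:ℕ) + q ^ (3:ℕ) = q ^ (8:ℕ) + q ^ (7:ℕ) + q + 1 := by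
    have : ((N30 + q ^ (5:ℕ) + q ^ (4:ℕ) + q ^ 3 : ℕ) : ℤ) = ((q ^ (8:ℕ) + q ^ (7:ℕ) + q + 1 : ℕ) : ℤ) := by
      push_cast; rw [hN30]; ring
    exact_mod_cast this
  have p24 : 0 < N24 := by omega
  have p30 : 0 < N30 := by (clear * - h58 h45 h34 e30; omega)
  intro p hp h5 hd
  have hP : Prime (p : ℤ) := Nat.prime_iff_prime_int.1 hp
  have hd' : (p : ℤ) ^ (2:ℕ) ∣ P8 q := by rw [← hcard]; exact_mod_cast hd
  have hb : p ≤ q ^ (4:ℕ) + q ^ (3:ℕ) + q ^ (2:ℕ) + q + 1 := by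
    have := bound (by exact_mod_cast hq2) hP hd'
    exact_mod_cast this
  have hb' : (p - 1) * f ≤ (q ^ (4:ℕ) + q ^ (3:ℕ) + q ^ (2:ℕ) + q) * f := Nat.mul_le_mul_right f (by (clear * - hb; omega))
  by_cases h : p ∣ N24
  · have h' : ¬ p ∣ N30 := fun h' => coprime_24_30 hP (by rw [← hN24]; exact_mod_cast h)
      (by rw [← hN30]; exact_mod_cast h')
    refine reg_of_torus h' (h30.mo' (w := 30) (modw (q := q) rfl p30 hcard (by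
      obtain ⟨M, h1, h2⟩ := w30 q
      rw [← hN30] at h1 h2
      exact ⟨M, h1, h2⟩)) hout.le dvd_rfl ?_)
    have : (p - 1) * (30 * f) = 30 * ((p - 1) * f) := by ring
    rw [this]
    (clear * - hq hq3 h58 h57 h45 h34 hmul e30 hb'; omega)
  · refine reg_of_torus h (h24.mo' (w := 24) (modw (q := q) rfl p24 hcard (by
      obtain ⟨M, h1, h2⟩ := w24 q
      rw [← hN24] at h1 h2
      exact ⟨M, h1, h2⟩)) hout.le dvd_rfl ?_)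
    have : (p - 1) * (24 * f) = 24 * ((p - 1) * f) := by ring
    rw [this]
    (clear * - hq3 h58 h45 hmul e24 hb'; omega)

end Cfsg.Agent.H92.PRegE8
end

private theorem dce_20fbf71f11cb : _root_.True := by
  try have : _root_.True := by simp only [_root_.Cfsg.Agent.H92.PRegE8.P8.eq_1]
  exact _root_.True.intro
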