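import Cfsg.Agent.H771.KTools_m3
import Cfsg.Agent.SporRec.G24Mat
import Cfsg.Agent.ChevalleyStructure.FieldIso
import Cfsg.Agent.Lib.FinFast
import Cfsg.Agent.Prune
set_option linter.all false
open scoped Cfsg.Agent.FastGrp

/-!
# `G₂(4)` has at least twelve classes: element orders 1, 2, 3, 4, 5, 6, 7, 8, 10, 12, 13, 15, 21
-/

set_option autoImplicit false
set_option maxRecDepth 100000

namespace Cfsg.Agent.H92.ExcG24

open Cfsg Cfsg.Lie Cfsg.Agent.SporRec.GF4 Cfsg.Agent.SporRec.G24Code Cfsg.Agent.SporRec.G24Mat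
  Cfsg.Agent.H92.KTools

universe u

/-- codes of a word -/
def cw (w : List (Fin 12 × Fin 3)) : List (List ℕ) := w.map fun p => xc p.1 p.2

/-- value of a word -/
def gw (w : List (Fin 12 × Fin 3)) : GL J F4 := (w.map fun p => gx p.1 p.2).prod

theorem forall2 (w : List (Fin 12 × Fin 3)) :
    List.Forall₂ (fun (g : GL J F4) c => IsCode (g : Matrix J J F4) c) (w.map fun p => gx p.1 p.2) (cw w) := by
  induction w with
  | nil => exact .nil
  | cons p w ih => exact .cons (isCode_gx _ _) ih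

theorem gw_mem (w : List (Fin 12 × Fin 3)) : gw w ∈ Gp := by
  apply Subgroup.list_prod_mem
  intro x hx
  obtain ⟨p, -, rfl⟩ := List.mem_map.1 hx
  exact gx_mem _ _

theorem iter (w : List (Fin 12 × Fin 3)) (n : ℕ) {v : ℕ} (hv : v < 2 ^ 28) :
    (appL (cw w))^[n] v < 2 ^ 28 ∧
      dec ((appL (cw w))^[n] v) = ((gw w ^ n : GL J F4) : Matrix J J F4).mulVec (dec v) := by
  induction n with
  | zero => exact ⟨hv, by rw [pow_zero, Units.val_one, Matrix.one_mulVec]; rfl⟩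
  | succ n ih =>
    rw [Function.iterate_succ_apply']
    obtain ⟨h1, h2⟩ := appL_spec (forall2 w) ih.1
    refine ⟨h1, ?_⟩
    rw [h2, ih.2, Matrix.mulVec_mulVec, pow_succ', Units.val_mul]
    rfl

theorem four_lt {p : ℕ} (hp : p < 14) : (4 : ℕ) ^ p < 2 ^ 28 := by
  calc (4 : ℕ) ^ p < 4 ^ 14 := Nat.pow_lt_pow_right (by norm_num) hp
    _ = 2 ^ 28 := by norm_num

theorem pow_eq_one_iff (w : List (Fin 12 × Fin 3)) (n : ℕ) :
    gw w ^ n = 1 ↔ ∀ p < 14, (appL (cw w))^[n] (4 ^ p) = 4 ^ p := by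
  constructor
  · intro h p hp
    obtain ⟨h1, h2⟩ := iter w n (four_lt hp)
    rw [h, Units.val_one, Matrix.one_mulVec] at h2
    exact dec_inj h1 (four_lt hp) h2
  · intro h
    apply Units.ext
    apply mat_ext
    intro p hp
    rw [← (iter w n (four_lt hp)).2, h p hp, Units.val_one, Matrix.one_mulVec]

theorem orderOf_gw (w : List (Fin 12 × Fin 3)) (n : ℕ) (hn : 0 < n)
    (h1 : ∀ p < 14, (appL (cw w))^[n] (4 ^ p) = 4 ^ p)
    (h2 : ∀ m < n, 0 < m → ¬ ∀ p < 14, (appL (cw w))^[m] (4 ^ p) = 4 ^ p) : orderOf (gw w) = n := by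
  rw [orderOf_eq_iff hn]
  exact ⟨(pow_eq_one_iff w n).2 h1, fun m hm hm0 h => h2 m hm hm0 ((pow_eq_one_iff w m).1 h)⟩

theorem hasOrd {w : List (Fin 12 × Fin 3)} {n : ℕ} (h : orderOf (gw w) = n) : HasOrd Gp n :=
  ⟨⟨gw w, gw_mem w⟩, by rw [← h]; exact (orderOf_injective Gp.subtype Gp.subtype_injective ⟨gw w, gw_mem w⟩).symm⟩

private noncomputable def _root_.Cfsg.Agent.LsF.f8360ad_0 : {f // @Cfsg.Agent.SporRec.G24Code.app = f} := ⟨_, by first | (delta Cfsg.Agent.SporRec.G24Code.app List.brecOn List.brecOn.go Cfsg.Agent.SporRec.G24Code.app._f; rewrite [Cfsg.Agent.LsF.nmul_pat, Cfsg.Agent.LsF.ndiv_pat, Cfsg.Agent.LsF.nmod_pat, Cfsg.Agent.LsF.nxor_pat]; (try delta Cfsg.Agent.SporRec.G24Code.app.match_1); (try delta List.casesOn); first | dsimp -zeta only | exact rfl) | exact rfl⟩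
private noncomputable def _root_.Cfsg.Agent.LsF.f8360ad_1 : {f // @Cfsg.Agent.SporRec.G24Mat.appL = f} := ⟨_, by first | (delta Cfsg.Agent.SporRec.G24Mat.appL; rewrite [Cfsg.Agent.LsF.f8360ad_0.2, Cfsg.Agent.LsF.foldr_eq]; exact rfl) | exact rfl⟩
private noncomputable def _root_.Cfsg.Agent.LsF.f8360ad_2 : {f // @Cfsg.Agent.SporRec.G24Code.xc = f} := ⟨_, by first | (delta Cfsg.Agent.SporRec.G24Code.xc; rewrite [Cfsg.Agent.LsF.nadd_pat, Cfsg.Agent.LsF.nmul_pat, Cfsg.Agent.LsF.getD_eq]; exact rfl) | exact rfl⟩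
private noncomputable def _root_.Cfsg.Agent.LsF.f8360ad_3 : {f // @Cfsg.Agent.H92.ExcG24.cw = f} := ⟨_, by first | (delta Cfsg.Agent.H92.ExcG24.cw; rewrite [Cfsg.Agent.LsF.f8360ad_2.2, Cfsg.Agent.LsF.map_eq]; exact rfl) | exact rfl⟩
theorem o8 : orderOf (gw [(1, 1), (7, 1)]) = 8 := orderOf_gw _ _ (by norm_num) (by (refine of_decide_eq_true ?_; (try (rewrite [Cfsg.Agent.LsF.f8360ad_1.2, Cfsg.Agent.LsF.f8360ad_3.2, Cfsg.Agent.LsF.npow_pat, Cfsg.Agent.LsF.iterate_eq, Cfsg.Agent.LsF.instDecEq_eq, Cfsg.Agent.LsF.dBallLT_eq, Cfsg.Agent.LsF.decide_eq])); decide +kernel)) (by decide +kernel)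
theorem o10 : orderOf (gw [(0, 0), (11, 1), (8, 0)]) = 10 :=
  orderOf_gw _ _ (by norm_num) (by (refine of_decide_eq_true ?_; (try (rewrite [Cfsg.Agent.LsF.f8360ad_1.2, Cfsg.Agent.LsF.f8360ad_3.2, Cfsg.Agent.LsF.npow_pat, Cfsg.Agent.LsF.iterate_eq, Cfsg.Agent.LsF.instDecEq_eq, Cfsg.Agent.LsF.dBallLT_eq, Cfsg.Agent.LsF.decide_eq])); decide +kernel)) (by decide +kernel)
theorem o12 : orderOf (gw [(9, 1), (7, 2), (1, 0)]) = 12 :=
  orderOf_gw _ _ (by norm_num) (by (refine of_decide_eq_true ?_; (try (rewrite [Cfsg.Agent.LsF.f8360ad_1.2, Cfsg.Agent.LsF.f8360ad_3.2, Cfsg.Agent.LsF.npow_pat, Cfsg.Agent.LsF.iterate_eq, Cfsg.Agent.LsF.instDecEq_eq, Cfsg.Agent.LsF.dBallLT_eq, Cfsg.Agent.LsF.decide_eq])); decide +kernel)) (by decide +kernel)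
theorem o13 : orderOf (gw [(9, 0), (1, 2), (10, 1), (3, 0)]) = 13 :=
  orderOf_gw _ _ (by norm_num) (by (refine of_decide_eq_true ?_; (try (rewrite [Cfsg.Agent.LsF.f8360ad_1.2, Cfsg.Agent.LsF.f8360ad_3.2, Cfsg.Agent.LsF.npow_pat, Cfsg.Agent.LsF.iterate_eq, Cfsg.Agent.LsF.instDecEq_eq, Cfsg.Agent.LsF.dBallLT_eq, Cfsg.Agent.LsF.decide_eq])); decide +kernel)) (by decide +kernel)
theorem o15 : orderOf (gw [(2, 0), (7, 1), (11, 0)]) = 15 :=
  orderOf_gw _ _ (by norm_num) (by (refine of_decide_eq_true ?_; (try (rewrite [Cfsg.Agent.LsF.f8360ad_1.2, Cfsg.Agent.LsF.f8360ad_3.2, Cfsg.Agent.LsF.npow_pat, Cfsg.Agent.LsF.iterate_eq, Cfsg.Agent.LsF.instDecEq_eq, Cfsg.Agent.LsF.dBallLT_eq, Cfsg.Agent.LsF.decide_eq])); decide +kernel)) (by decide +kernel)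
theorem o21 : orderOf (gw [(11, 2), (3, 0), (2, 0)]) = 21 :=
  orderOf_gw _ _ (by norm_num) (by (refine of_decide_eq_true ?_; (try (rewrite [Cfsg.Agent.LsF.f8360ad_1.2, Cfsg.Agent.LsF.f8360ad_3.2, Cfsg.Agent.LsF.npow_pat, Cfsg.Agent.LsF.iterate_eq, Cfsg.Agent.LsF.instDecEq_eq, Cfsg.Agent.LsF.dBallLT_eq, Cfsg.Agent.LsF.decide_eq])); decide +kernel)) (by decide +kernel)

theorem k_Gp : 12 ≤ Nat.card (ConjClasses Gp) := by
  have h8 := hasOrd o8
  have h10 := hasOrd o10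
  have h12 := hasOrd o12
  have h13 := hasOrd o13
  have h15 := hasOrd o15
  have h21 := hasOrd o21
  have : Finite Gp := inferInstance
  have h := orders_le (G := Gp) {1, 2, 3, 4, 5, 6, 7, 8, 10, 12, 13, 15, 21} (by
    simp only [Finset.mem_insert, Finset.mem_singleton, forall_eq_or_imp, forall_eq]
    exact ⟨hasOrd_one _, h8.of_dvd (by norm_num) (by norm_num), h12.of_dvd (by norm_num) (by norm_num),
      h8.of_dvd (by norm_num) (by norm_num), h10.of_dvd (by norm_num) (by norm_num),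
      h12.of_dvd (by norm_num) (by norm_num), h21.of_dvd (by norm_num) (by norm_num), h8, h10, h12, h13, h15, h21⟩)
  refine le_trans ?_ h
  decide

/-- **`G₂(4)`** -/
theorem g2_four {F : Type u} [Field F] [Finite F] (hF : Nat.card F = 4) :
    12 ≤ Nat.card (ConjClasses ↥(chevG2.group F)) := by
  have := Fintype.ofFinite F
  have h : Fintype.card F4 = Fintype.card F := by rw [show Fintype.card F4 = 4 from rfl, ← Nat.card_eq_fintype_card, hF]
  have e : F4 ≃+* F := FiniteField.ringEquivOfCardEq h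
  rw [← card_classes_congr (ChevalleyStructure.FieldIso.groupEquiv chevG2 e)]
  exact k_Gp

end Cfsg.Agent.H92.ExcG24
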