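import Cfsg.Agent.H771.KTools_m3
import Cfsg.Agent.H92.F4Code
import Cfsg.Prelude.Def_LieTwisted
import Cfsg.Agent.H92.F2Fast
import Cfsg.Agent.Prune
set_option linter.all false
open scoped Cfsg.Agent.FastGrp

/-!
# Element orders of `²F₄(q)` and of the Tits group
-/

set_option autoImplicit false
set_option maxRecDepth 100000

namespace Cfsg.Agent.H92.ExcTwF4

open Cfsg Cfsg.Lie Cfsg.Agent.H92.F2Code Cfsg.Agent.H92.F4Code Cfsg.Agent.H92.KTools
  Cfsg.Agent.ChevalleyStructure Cfsg.Agent.ChevalleyStructure.Elts

universe u

/-- the generators of `²F₄(2)` as words in the letters -/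
def GG : List (List ℕ) := [[0, 1], [2, 3], [6, 7], [4, 5, 6], [4, 5, 7], [10, 11], [8, 9, 10], [8, 9, 11]]

/-- expansion of a word in the generators -/
def ex (w : List ℕ) : List ℕ := w.flatMap fun k => GG.getD k []

variable {K : Type u} [Field K]

/-- the element of a word in the generators -/
def el (K : Type u) [Field K] (w : List ℕ) : GL chevF4.Idx K := wd hF K (rts (ex w))

theorem el_cons (k : ℕ) (w : List ℕ) : el K (k :: w) = wd hF K (rts (GG.getD k [])) * el K w := by
  unfold el ex rts
  rw [List.flatMap_cons, List.map_append, wd_append]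

theorem el_append (w v : List ℕ) : el K (w ++ v) = el K w * el K v := by
  unfold el ex rts
  rw [List.flatMap_append, List.map_append, wd_append]

theorem mem_of_word [CharP K 2] {e : ℕ} {w : List (ℕ × K)} {v : List ℕ} (hw : w ∈ f4Words K e)
    (h : wordG hF w = wd hF K v) : wd hF K v ∈ twistedF4 K e := by
  rw [← h]
  exact Subgroup.subset_closure ⟨w, hw, coe_wordG hF w⟩

theorem gen_mem [CharP K 2] {e : ℕ} (he : e ≠ 0) (k : ℕ) (hk : k < 8) :
    wd hF K (rts (GG.getD k [])) ∈ twistedF4 K e := by
  have h2 : (1 : K) + 1 = 0 := by
    have := CharP.cast_eq_zero K 2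
    rw [← this]; norm_num
  have hz : ∀ n : ℕ, n ≠ 0 → (0 : K) ^ n = 0 := fun n hn => zero_pow hn
  interval_cases k
  · refine mem_of_word (w := f4PairWord e f4p1 f4p4 1) (Or.inl ⟨1, Or.inl rfl⟩) ?_
    simp [wordG, wd, f4PairWord, rts, letters, GG, f4p1, f4p4]
  · refine mem_of_word (w := f4PairWord e f4m1 f4m4 1) (Or.inl ⟨1, Or.inr rfl⟩) ?_
    simp [wordG, wd, f4PairWord, rts, letters, GG, f4m1, f4m4]
  · refine mem_of_word (w := b2ClassWord e f4a f4b f4ab f4aab 0 1) (Or.inr ⟨0, 1, Or.inl rfl⟩) ?_
    simp [wordG, wd, b2ClassWord, rts, letters, GG, f4a, f4b, f4ab, f4aab, xG_zero, he]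
  · refine mem_of_word (w := b2ClassWord e f4a f4b f4ab f4aab 1 0) (Or.inr ⟨1, 0, Or.inl rfl⟩) ?_
    simp [wordG, wd, b2ClassWord, rts, letters, GG, f4a, f4b, f4ab, f4aab, xG_zero, he]
  · refine mem_of_word (w := b2ClassWord e f4a f4b f4ab f4aab 1 1) (Or.inr ⟨1, 1, Or.inl rfl⟩) ?_
    simp [wordG, wd, b2ClassWord, rts, letters, GG, f4a, f4b, f4ab, f4aab, xG_zero, h2]
  · refine mem_of_word (w := b2ClassWord e f4ma f4mb f4mab f4maab 0 1) (Or.inr ⟨0, 1, Or.inr rfl⟩) ?_
    simp [wordG, wd, b2ClassWord, rts, letters, GG, f4ma, f4mb, f4mab, f4maab, xG_zero, he]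
  · refine mem_of_word (w := b2ClassWord e f4ma f4mb f4mab f4maab 1 0) (Or.inr ⟨1, 0, Or.inr rfl⟩) ?_
    simp [wordG, wd, b2ClassWord, rts, letters, GG, f4ma, f4mb, f4mab, f4maab, xG_zero, he]
  · refine mem_of_word (w := b2ClassWord e f4ma f4mb f4mab f4maab 1 1) (Or.inr ⟨1, 1, Or.inr rfl⟩) ?_
    simp [wordG, wd, b2ClassWord, rts, letters, GG, f4ma, f4mb, f4mab, f4maab, xG_zero, h2]

theorem el_mem [CharP K 2] {e : ℕ} (he : e ≠ 0) (w : List ℕ) (hw : ∀ k ∈ w, k < 8) : el K w ∈ twistedF4 K e := by
  induction w with
  | nil => exact one_mem _
  | cons k w ih =>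
    rw [el_cons]
    exact mul_mem (gen_mem he k (hw k List.mem_cons_self)) (ih fun j hj => hw j (List.mem_cons_of_mem _ hj))

theorem p20 : (20 : ℕ).primeFactors = {2, 5} := by decide +kernel
theorem p16 : (16 : ℕ).primeFactors = {2} := by decide +kernel
theorem p13 : (13 : ℕ).primeFactors = {13} := by decide +kernel
theorem p12 : (12 : ℕ).primeFactors = {2, 3} := by decide +kernel
theorem p10 : (10 : ℕ).primeFactors = {2, 5} := by decide +kernel

/-- code of a word (element of order 20) -/
def C20 : List ℕ := [312813230794752, 1799600132096, 417054669275713, 4086380668119969, 3700576, 114280411822138, 519168504, 12711936, 114280412845738, 114280043766258, 402776568, 2076617164929, 137464592513, 2076629714945, 8248501475330, 1939202930816, 1662169557123, 8248514052098, 6612102598657, 224404080623716, 112201973466047, 4503486615566359, 137439230081, 313375871942786, 7011546736641, 224404082738180, 150712300668843, 187141041334858, 3404110279819757, 4496474967638022, 105965472448512, 313375855017986, 310886929573891, 1649284261891, 3953963066147757, 3404110816822189, 3511724903235590, 299211044173827,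 1108101775360, 299483774625795, 286424934950913, 300181715566594, 8804683366400, 284361194733568, 295775078711298, 74801226253231, 2402467822502827, 600608399163392, 303471660105730, 2251911751270400, 3334840797626374, 3545947030159366]

/-- code of a word (element of order 16) -/
def C16 : List ℕ := [1939177734145, 137438953474, 1939446169604, 112203336253448, 48, 3700576, 530880, 2176, 3700480, 3171840, 2114560, 12711936, 28672, 12705792, 137464594433, 12681216, 25362432, 137456123905, 137439215617, 506986504, 116391936, 114280047312898, 12582912, 1939202899968, 414481121282, 503316488, 1946157060, 402653192, 224404793458688, 113865488596992, 75910325731328, 1939177734144, 1662152343552, 1108101562368, 112201725640704, 224403451281408, 149602300854272, 8658654068736, 1924145348608, 8246337208320, 313360813916160, 6597069766656, 13194139533312, 307863255777280, 299067162755072, 105553116266496, 4151755906482176, 985162418487296, 281474976710656, 3940649673949184, 3377699720527872, 2251799813685248]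

/-- code of a word (element of order 13) -/
def C13 : List ℕ := [277025685506, 262147, 277159903247, 1940922728964, 48, 3702672, 3171904, 2176, 3174032, 3700560, 1057280, 12705920, 12685312, 12681344, 137456132097, 12710016, 137443442689, 137439223809, 137460359169, 503415048, 402654728, 113865623208463, 98304, 1939178029059, 1662152474624, 402751752, 112478784585728, 503318280, 187557061066752, 112201860121103, 149602837725184, 1662152638467, 1939177897984, 554050781184, 114142547968515, 150156485853184, 187003547156480, 6609954930688, 6599217250304, 6597070028800, 307867550744576, 6612102414336, 301266186010624, 299071457722368, 310066574000128, 51539607552, 3958259039862784, 3377768440004608, 17592186044416, 3395309086441472, 3940735573295104, 1125899906842624]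

/-- code of a word (element of order 12) -/
def C12 : List ℕ := [1662152343553, 262147, 1662286561292, 113863877984264, 48, 3702672, 3171904, 2176, 528640, 3171840, 1057280, 12705920, 12685312, 24576, 137456132097, 12681216, 137443442689, 16908288, 137439215617, 503415048, 402654728, 113865623208463, 98304, 1939178029059, 1662152474624, 100663296, 112478784585728, 402653192, 187557061066752, 1610612736, 149602837725184, 277025390592, 1662152343552, 554050781184, 112201725640704, 37400575213568, 149602300854272, 6609954930688, 6599217250304, 12884901888, 307867550744576, 6597069766656, 301266186010624, 8796093022208, 299067162755072, 51539607552, 3958259039862784, 3377768440004608, 17592186044416, 562949953421312, 3377699720527872, 1125899906842624]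

/-- code of a word (element of order 16) -/
def T16 : List ℕ := [1799608098819, 8521227722754, 226204123313414, 105620049594766, 3700560, 114142987348907, 519149848, 12710016, 3174048, 3700576, 114142594657651, 2076642224129, 137464586369, 12683264, 7022297008258, 12711936, 1799612518402, 2076642127873, 137464596609, 188943600114356, 112339547975238, 4489069547697402, 1939198736512, 314333628340353, 7011538335872, 114280450089418, 150849746451825, 506986552, 3877368811574541, 112339446787702, 4489050419049220, 1799595595906, 1939202930816, 314329358630915, 114280043766258, 150848121165057, 224404820407040, 307038651572227, 313788180455426, 6734521327616, 20630905257986, 8658654191616, 9496202280963, 300304142925827, 313100998246402, 4160468095723023, 1188019880191495, 605195636696591, 289734198820864, 3738215365338639, 4125283589416455, 2812671002935296]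

/-- code of a word (element of order 10) -/
def T10 : List ℕ := [1662152736770, 262147, 1662286954511, 114141071572999, 48, 3174096, 528656, 2176, 3174032, 3700560, 1057280, 12685440, 24704, 12681344, 137443450881, 12710016, 16916480, 137439223809, 137460359169, 402753288, 100663552, 112478919098895, 98304, 1662152769539, 277025423360, 402751752, 1610744320, 503318280, 150157022724096, 112201860121103, 37400709431296, 1662152638467, 1939177897984, 554050781184, 114142547968515, 150156485853184, 187003547156480, 6599217512448, 12885164032, 6597070028800, 301270480977920, 6612102414336, 8800387989504, 299071457722368, 310066574000128, 51539607552, 3395377805918208, 562967133290496, 17592186044416, 3395309086441472, 3940735573295104, 1125899906842624]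

/-- code of a word (element of order 12) -/
def T12 : List ℕ := [4294967297, 2890512990211, 129117454348, 21474836488, 928, 944, 576, 43008, 172490752, 22030581766, 22165848070, 43136, 36864, 409600, 417792, 6450839554, 6455033858, 4311744512, 2886218022912, 172527872, 22030992390, 22166267398, 6451167234, 6455394306, 4311875584, 19394461696, 19428016128, 111937585152, 133546639368, 69793218560, 70330089472, 2473901162496, 27487790694400, 28037546508288, 2040693581152256, 2075877953241088, 1266637395197952, 2890513252353, 2476048646144, 27496380628992, 28050431410176, 21990232555520, 24189255811072, 8796093022208, 281474976710656, 2062718173446144, 2100118748659712, 1275502207696896, 299067162755072, 562949953421312, 2251799813685248, 3377699720527872]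

theorem o20 [CharP K 2] : orderOf (el K [7, 0, 4, 1, 0, 2, 6, 1]) = 20 :=
  orderOf_wd' _ C20 (by decide) (by norm_num) (F2Fast.prod_of (by decide +kernel))
    (F2Fast.triv_of (by decide +kernel)) (by rw [p20]; exact F2Fast.ntriv_of (by decide +kernel))

theorem o16 [CharP K 2] : orderOf (el K [0, 3]) = 16 :=
  orderOf_wd' _ C16 (by decide) (by norm_num) (F2Fast.prod_of (by decide +kernel))
    (F2Fast.triv_of (by decide +kernel)) (by rw [p16]; exact F2Fast.ntriv_of (by decide +kernel))

theorem o13 [CharP K 2] : orderOf (el K [0, 1, 2, 5]) = 13 :=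
  orderOf_wd' _ C13 (by decide) (by norm_num) (F2Fast.prod_of (by decide +kernel))
    (F2Fast.triv_of (by decide +kernel)) (by rw [p13]; exact F2Fast.ntriv_of (by decide +kernel))

theorem o12 [CharP K 2] : orderOf (el K [0, 1, 2]) = 12 :=
  orderOf_wd' _ C12 (by decide) (by norm_num) (F2Fast.prod_of (by decide +kernel))
    (F2Fast.triv_of (by decide +kernel)) (by rw [p12]; exact F2Fast.ntriv_of (by decide +kernel))

theorem hasOrd {S : Subgroup (GL chevF4.Idx K)} {x : GL chevF4.Idx K} (hx : x ∈ S) {n : ℕ} (h : orderOf x = n) :
    HasOrd S n :=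
  ⟨⟨x, hx⟩, by rw [← h]; exact (orderOf_injective S.subtype S.subtype_injective ⟨x, hx⟩).symm⟩

/-- **`²F₄(q)`** -/
theorem twF4 [Finite K] [CharP K 2] {e : ℕ} (he : e ≠ 0) :
    12 ≤ Nat.card (ConjClasses ↥(twistedF4 K e)) := by
  have h20 := hasOrd (el_mem (K := K) he [7, 0, 4, 1, 0, 2, 6, 1] (by decide)) o20
  have h16 := hasOrd (el_mem (K := K) he [0, 3] (by decide)) o16
  have h13 := hasOrd (el_mem (K := K) he [0, 1, 2, 5] (by decide)) o13
  have h12 := hasOrd (el_mem (K := K) he [0, 1, 2] (by decide)) o12
  have h := orders_le (G := twistedF4 K e) {1, 2, 3, 4, 5, 6, 8, 10, 12, 13, 16, 20} (by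
    simp only [Finset.mem_insert, Finset.mem_singleton, forall_eq_or_imp, forall_eq]
    exact ⟨hasOrd_one _, h20.of_dvd (by norm_num) (by norm_num), h12.of_dvd (by norm_num) (by norm_num),
      h20.of_dvd (by norm_num) (by norm_num), h20.of_dvd (by norm_num) (by norm_num),
      h12.of_dvd (by norm_num) (by norm_num), h16.of_dvd (by norm_num) (by norm_num),
      h20.of_dvd (by norm_num) (by norm_num), h12, h13, h16, h20⟩)
  refine le_trans ?_ h
  decide

theorem twF4' {F : Type u} [Field F] [Fintype F] {m : ℕ} (hF : Fintype.card F = 2 ^ (2 * m + 1)) :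
    12 ≤ Nat.card (ConjClasses ↥(twistedF4 F (2 ^ m))) := by
  have : CharP F 2 := by
    obtain ⟨p, hp⟩ := CharP.exists F
    have hpr : p.Prime := CharP.char_is_prime F p
    obtain ⟨n, -, hn⟩ := FiniteField.card F p
    have h1 : p ∣ 2 ^ (2 * m + 1) := by rw [← hF, hn]; exact dvd_pow_self p n.2.ne'
    have h2 := (Nat.prime_dvd_prime_iff_eq hpr Nat.prime_two).1 (hpr.dvd_of_dvd_pow h1)
    rwa [h2] at hp
  exact twF4 (by positivity)

end Cfsg.Agent.H92.ExcTwF4

private theorem dce_634049cf1f82 : _root_.True := by
  try have : _root_.True := by simp only [_root_.Cfsg.Lie.f4ab.eq_1]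
  try have : _root_.True := by simp only [_root_.Cfsg.Lie.f4aab.eq_1]
  try have : _root_.True := by simp only [_root_.Cfsg.Lie.f4m1.eq_1]
  try have : _root_.True := by simp only [_root_.Cfsg.Lie.f4b.eq_1]
  try have : _root_.True := by simp only [_root_.Cfsg.Lie.f4m4.eq_1]
  try have : _root_.True := by simp only [_root_.Cfsg.Lie.f4a.eq_1]
  try have : _root_.True := by simp only [_root_.Cfsg.Lie.f4PairWord.eq_1]
  try have : _root_.True := by simp only [_root_.Cfsg.Lie.b2ClassWord.eq_1]
  try have : _root_.True := by simp only [_root_.Cfsg.Lie.f4mb.eq_1]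
  try have : _root_.True := by simp only [_root_.Cfsg.Agent.H92.F4Code.letters.eq_1]
  try have : _root_.True := by simp only [_root_.Cfsg.Agent.H92.ExcTwF4.GG.eq_1]
  try have : _root_.True := by simp only [_root_.Cfsg.Lie.f4maab.eq_1]
  try have : _root_.True := by simp only [_root_.Cfsg.Lie.f4p4.eq_1]
  try have : _root_.True := by simp only [_root_.Cfsg.Lie.f4ma.eq_1]
  try have : _root_.True := by simp only [_root_.Cfsg.Lie.f4p1.eq_1]
  try have : _root_.True := by simp only [_root_.Cfsg.Lie.f4mab.eq_1]
  try have : _root_.True := by simp only [_root_.Cfsg.Agent.H92.F4Code.rts.eq_1]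
  exact _root_.True.intro
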