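import Cfsg.Agent.H720.RowsNeg_m3
import Cfsg.Agent.H129.TorusUntw
import Cfsg.Agent.BpExc.AsmN_m3
import Cfsg.Agent.H473.Ab.Cyclo
import Cfsg.Agent.Prune
set_option linter.all false

section
prune_inst 0x7f00000000000000000000000000000000000000000000000000000000000000000000000000000000000000000000000000000000000000000000000000000000000000000000000000000000000000003fffffffffffffffffffffffffffbeffbdffffffff

-- part: H473/Ab/Toral
section
set_option linter.all false
open scoped Cfsg.Agent.FastGrp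

/-!
# The primes dividing the order of an element of `D.group F` (helper473)

* `exists_mult_elt` : `x ∈ D.group F` of order prime to the characteristic; there is a multiset `m` of positive integers
  with `∑ φ(d) = l` such that every prime `s ∣ |x|` divides `Φ_d(q)` for some `d ∈ m`;
* `exists_mult_comm` : the same for an abelian subgroup (all primes except the characteristic).
-/

set_option autoImplicit false
set_option linter.unusedSectionVars false

namespace Cfsg.Agent.H473.Ab.Toral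

open CoxeterSystem Cfsg Cfsg.Lie Cfsg.Lie.ChevalleyDatum Polynomial
open Cfsg.Agent.ChevalleyStructure Cfsg.Agent.ChevalleyStructure.Elts Cfsg.Agent.ChevalleyStructure.CoxeterGeom
  Cfsg.Agent.ChevalleyStructure.CoxeterGeomTypes Cfsg.Agent.ChevalleyStructure.NPerm
open Cfsg.Agent.Tits.Roots Cfsg.Agent.Tits.Core Cfsg.Agent.Nodes Cfsg.Agent.Nodes.Reps Cfsg.Agent.Nodes.BNOf
  Cfsg.Agent.Nodes.RGDChev Cfsg.Agent.Nodes.Bruhat
open Cfsg.Agent.KFacts.RgdField Cfsg.Agent.KFacts.RgdChevCoord Cfsg.Agent.BpExc.TorCent Cfsg.Agent.BpExc.TorChev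
open Cfsg.Agent.GpExc.Field Cfsg.Agent.BpExc.Tow Cfsg.Agent.BpExc.TowChev Cfsg.Agent.BpExc.Fr
  Cfsg.Agent.BpExc.LangFr Cfsg.Agent.LangThm Cfsg.Agent.BpExc Cfsg.Agent.H129.TorusChar Cfsg.Agent.H129.TorusMain
  Cfsg.Agent.H129.TorusUntw Cfsg.Agent.H720.TorusReal Cfsg.Agent.H473.Ab.Cyclo

universe u

variable {D : ChevalleyDatum} {l : ℕ} {M : CoxeterMatrix (Fin l)} (hp : IsType D l M)

include hp in
/-- **The primes dividing the order of an element.** -/
theorem exists_mult_elt {W : Type*} [Group W] [Finite W] (cs : CoxeterSystem M W) {F : Type u} [Field F] [Fintype F]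
    {r : ℕ} [Fact r.Prime] [hFr : CharP F r] {x : ↥(D.group F)} (hx0 : orderOf x ≠ 0) (hx : (orderOf x).Coprime r) :
    ∃ m : Multiset ℕ, (∀ d ∈ m, 0 < d) ∧ (m.map Nat.totient).sum = l ∧
      ∀ s : ℕ, s.Prime → s ∣ orderOf x → ∃ d ∈ m, (s : ℤ) ∣ (cyclotomic d ℤ).eval (Fintype.card F : ℤ) := by
  obtain ⟨p, e, hpF, hpc, hpk, he, hq, hk⟩ := exists_closure (F := F) rfl
  have hpr : p = r := CharP.eq F hpc hFr
  subst hpr
  let k := AlgebraicClosure F
  have hA : BpExc.TorAll.HAlg p k := H944.RootVals.hAlg_closure p F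
  have hN : NSys M (TT D k) (nc hp k) := nsys_of_locFin hp cs hk p
  set f := algebraMap F k with hf
  set x' : ↥(D.group k) := emb hp.inList f x with hx'
  have hxo : orderOf x' = orderOf x := orderOf_injective (emb hp.inList f) (emb_injective hp.inList f) x
  obtain ⟨z, t, n, w, h1, h2, h3, h4⟩ := exists_toral hp cs hA hk (fr_phi hp cs) hN (x := x') (σ := phi D k p e)
    (phi_emb hp f hq x) hx0 hx (by rw [← hxo, pow_orderOf_eq_one])
  have hto : orderOf t = orderOf x := by
    rw [← hxo, h1]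
    exact ((MulAut.conj z).orderOf_eq t).symm
  have h5 := (tau_iff hp cs hk isFrob_phi (fr_phi hp cs) h3 h2).1 h4
  set A : Matrix (Fin l) (Fin l) ℤ := LinearMap.toMatrix' (rep cs hp.isCartan w) with hAdef
  have hAv : ∀ y, A.mulVec y = rep cs hp.isCartan w y := fun y => by
    rw [hAdef, ← Matrix.toLin'_apply, Matrix.toLin'_toMatrix']
  have hAn : A ^ (Nat.card W) = 1 := by
    have h6 : A = (LinearMap.toMatrixAlgEquiv' (R := ℤ) (n := Fin l)) (rep cs hp.isCartan w) := rfl
    rw [h6, ← map_pow, ← map_pow, pow_card_eq_one', map_one, map_one]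
  obtain ⟨m, hm1, hm2, hm3⟩ := exists_mult Nat.card_pos hAn
  refine ⟨m, hm1, hm2, fun s hs hsx => ?_⟩
  refine exists_of_dvd_prod hs ?_
  rw [← hm3]
  -- the element of order `s`
  obtain ⟨c, hc⟩ : s ∣ orderOf t := by rw [hto]; exact hsx
  have hto0 : orderOf t ≠ 0 := by rw [hto]; exact hx0
  have hc0 : c ≠ 0 := by
    rintro rfl
    rw [mul_zero] at hc
    exact hto0 hc
  have hsc : (t ^ c) ^ s = 1 := by rw [← pow_mul, mul_comm, ← hc, pow_orderOf_eq_one]
  have htc1 : t ^ c ≠ 1 := by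
    intro h
    have h6 := Nat.le_of_dvd (Nat.pos_of_ne_zero hc0) (orderOf_dvd_of_pow_eq_one h)
    rw [hc] at h6
    have := hs.two_le
    nlinarith [Nat.pos_of_ne_zero hc0]
  have htc : t ^ c ∈ TT D k := pow_mem h2 c
  have hmc := isMC_cX hp htc
  -- a nontrivial value
  obtain ⟨i, hi⟩ : ∃ i, cX hp (t ^ c) (sr i) ≠ 1 := by
    by_contra hcon
    push Not at hcon
    apply htc1
    refine cX_inj hp htc (one_mem _) fun i => ?_
    rw [hcon, cX_one]
  refine dvd_charpoly A (φ := cX hp (t ^ c)) hmc.zero hmc.add (q := Fintype.card F) (fun y => ?_) hs (fun y => ?_) hi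
  · rw [hAv, cX_pow hp h2, cX_pow hp h2, hq, ← pow_mul, mul_comm, pow_mul]
    congr 1
    exact h5 y
  · rw [← cX_pow hp htc, hsc, cX_one]

end Cfsg.Agent.H473.Ab.Toral

private theorem dce_5b6b2754c388 : _root_.True := by
  try have : _root_.True := by simp only [_root_.Cfsg.Agent.H129.TorusChar.cX.congr_simp]
  exact _root_.True.intro
end

-- part: H92/TorExp
section
set_option linter.all false
open scoped Cfsg.Agent.FastGrp

set_option autoImplicit false
set_option linter.unusedSectionVars false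

/-!
# Upper bounds for the orders of semisimple elements of the exceptional groups (helper92)

* `exists_set` : a matrix `A ∈ GL_l(ℤ)` of finite order is annihilated by `∏_{d ∈ S} Φ_d`, `S` a finite set with
  `∑_{d ∈ S} φ(d) ≤ l`;
* `toral_exp` : `σ x = x`, `x` of order prime to the characteristic: there is `w ∈ W` such that `|x|` divides `P(q)` for
  every `P ∈ ℤ[X]` with `P(w g) = 0` (`g` the graph automorphism of the lattice belonging to `σ`);
* `exp_untw` : the same for `D.group F` (`g = 1`);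
* `ord_untw` : `x ∈ D.group F` of order prime to the characteristic: `|x|` divides `∏_{d ∈ S} Φ_d(q)` for some `S` with
  `∑_{d ∈ S} φ(d) ≤ l`.
-/

namespace Cfsg.Agent.H92.TorExp

open CoxeterSystem Cfsg Cfsg.Lie Cfsg.Lie.ChevalleyDatum Polynomial
open Cfsg.Agent.ChevalleyStructure Cfsg.Agent.ChevalleyStructure.Elts Cfsg.Agent.ChevalleyStructure.CoxeterGeom
  Cfsg.Agent.ChevalleyStructure.CoxeterGeomTypes Cfsg.Agent.ChevalleyStructure.NPerm
open Cfsg.Agent.Tits.Roots Cfsg.Agent.Tits.Core Cfsg.Agent.Nodes Cfsg.Agent.Nodes.Reps Cfsg.Agent.Nodes.BNOf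
  Cfsg.Agent.Nodes.RGDChev Cfsg.Agent.Nodes.Bruhat
open Cfsg.Agent.KFacts.RgdField Cfsg.Agent.KFacts.RgdChevCoord Cfsg.Agent.BpExc.TorCent Cfsg.Agent.BpExc.TorChev
open Cfsg.Agent.GpExc.Field Cfsg.Agent.BpExc.Tow Cfsg.Agent.BpExc.TowChev Cfsg.Agent.BpExc.Fr
  Cfsg.Agent.BpExc.LangFr Cfsg.Agent.LangThm Cfsg.Agent.BpExc Cfsg.Agent.H129.TorusChar Cfsg.Agent.H129.TorusMain
  Cfsg.Agent.H129.TorusUntw Cfsg.Agent.H720.TorusReal Cfsg.Agent.H473.Ab.Cyclo

universe u

/-! ### matrices of finite order -/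

/-- **The radical of the characteristic polynomial annihilates a matrix of finite order.** -/
theorem exists_set {l : ℕ} {A : Matrix (Fin l) (Fin l) ℤ} {n : ℕ} (hn : 0 < n) (hA : A ^ n = 1) :
    ∃ S : Finset ℕ, (∀ d ∈ S, 0 < d) ∧ ∑ d ∈ S, Nat.totient d ≤ l ∧ aeval A (∏ d ∈ S, cyclotomic d ℤ) = 0 := by
  obtain ⟨m, h1, h2, h3⟩ := exists_mult hn hA
  refine ⟨m.toFinset, fun d hd => h1 d (Multiset.mem_toFinset.1 hd), ?_, ?_⟩
  · rw [← h2]
    have h4 : m.toFinset.val ≤ m := Multiset.dedup_le m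
    have h5 : ∀ s : Multiset ℕ, s ≤ m → (s.map Nat.totient).sum ≤ (m.map Nat.totient).sum := by
      intro s hs
      obtain ⟨m', rfl⟩ := Multiset.le_iff_exists_add.1 hs
      rw [Multiset.map_add, Multiset.sum_add]
      exact Nat.le_add_right _ _
    exact h5 _ h4
  · set B : Matrix (Fin l) (Fin l) ℚ := A.map (algebraMap ℤ ℚ) with hB
    have hBn : B ^ n = 1 := by
      rw [hB, ← RingHom.mapMatrix_apply, ← map_pow, hA, map_one]
    -- the minimal polynomial is squarefree
    have hd1 : minpoly ℚ B ∣ X ^ n - 1 := minpoly.dvd ℚ B (by rw [map_sub, map_pow, aeval_X, map_one, hBn, sub_self])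
    have hsq : Squarefree (minpoly ℚ B) := by
      have h4 : (X ^ n - 1 : ℚ[X]).Separable := separable_X_pow_sub_C_unit (1 : ℚˣ) (by
        rw [isUnit_iff_ne_zero]; exact_mod_cast hn.ne')
      exact (h4.of_dvd hd1).squarefree
    have hd2 : minpoly ℚ B ∣ B.charpoly := Matrix.minpoly_dvd_charpoly B
    have h5 : B.charpoly = (m.map fun d => cyclotomic d ℚ).prod := by
      rw [hB, Matrix.charpoly_map, h3, ← coe_mapRingHom, map_multiset_prod, Multiset.map_map]
      congr 1
      exact Multiset.map_congr rfl fun d _ => by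
        rw [Function.comp_apply, coe_mapRingHom, map_cyclotomic]
    have h6 : (m.map fun d => cyclotomic d ℚ).prod ∣ (∏ d ∈ m.toFinset, cyclotomic d ℚ) ^ (Multiset.card m + 1) := by
      rw [← Finset.prod_pow, Finset.prod_multiset_map_count]
      refine Finset.prod_dvd_prod_of_dvd _ _ fun d _ => pow_dvd_pow _ ?_
      exact (Multiset.count_le_card d m).trans (Nat.le_succ _)
    have h7 : minpoly ℚ B ∣ ∏ d ∈ m.toFinset, cyclotomic d ℚ :=
      (hsq.dvd_pow_iff_dvd (Nat.succ_ne_zero _)).1 ((h5 ▸ hd2).trans h6)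
    have h8 : aeval B (∏ d ∈ m.toFinset, cyclotomic d ℚ) = 0 := by
      obtain ⟨c, hc⟩ := h7
      rw [hc, map_mul, minpoly.aeval, zero_mul]
    have h9 : (aeval A (∏ d ∈ m.toFinset, cyclotomic d ℤ)).map (algebraMap ℤ ℚ) = 0 := by
      have h10 : ∀ P : ℤ[X], (aeval A P).map (algebraMap ℤ ℚ) = aeval B (P.map (algebraMap ℤ ℚ)) := by
        intro P
        rw [hB, ← RingHom.mapMatrix_apply, ← RingHom.mapMatrix_apply]
        exact (Polynomial.map_aeval_eq_aeval_map (by
          ext a i j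
          simp) P A)
      rw [h10, ← coe_mapRingHom, map_prod]
      simp only [coe_mapRingHom, map_cyclotomic]
      exact h8
    ext i j
    have h11 := congrFun (congrFun h9 i) j
    rw [Matrix.map_apply, Matrix.zero_apply] at h11
    exact (algebraMap ℤ ℚ).injective_int (h11.trans (map_zero _).symm)

/-! ### characters -/

section Char

variable {l : ℕ} {k : Type u} [Field k] {φ : (Fin l → ℤ) → k} (hφ : IsMC φ)

include hφ in
/-- a multiplicative function as a homomorphism to the units -/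
theorem exists_hom : ∃ χ : Multiplicative (Fin l → ℤ) →* kˣ, ∀ x, ((χ (Multiplicative.ofAdd x) : kˣ) : k) = φ x :=
  ⟨MonoidHom.mk' (fun x => Units.mk0 (φ (Multiplicative.toAdd x)) (hφ.ne_zero _)) (fun x y => Units.ext (by
    show φ (Multiplicative.toAdd (x * y)) = _
    rw [toAdd_mul, hφ.add]; rfl)), fun x => rfl⟩

/-- `χ (θ x) = χ x ^ q` implies `χ (P(θ) x) = χ x ^ P(q)` -/
theorem chi_aeval {χ : Multiplicative (Fin l → ℤ) →* kˣ} {θ : Module.End ℤ (Fin l → ℤ)} {q : ℕ}
    (h : ∀ x, χ (Multiplicative.ofAdd (θ x)) = χ (Multiplicative.ofAdd x) ^ q) (P : ℤ[X]) (x : Fin l → ℤ) :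
    χ (Multiplicative.ofAdd (aeval θ P x)) = χ (Multiplicative.ofAdd x) ^ (P.eval (q : ℤ)) := by
  induction P using Polynomial.induction_on' with
  | add P Q hP hQ =>
    rw [map_add, LinearMap.add_apply, ofAdd_add, map_mul, hP, hQ, eval_add, zpow_add]
  | monomial n a =>
    have h1 : ∀ i : ℕ, ∀ y, χ (Multiplicative.ofAdd ((θ ^ i) y)) = χ (Multiplicative.ofAdd y) ^ (q ^ i) := by
      intro i
      induction i with
      | zero => intro y; rw [pow_zero, pow_zero, pow_one]; rfl
      | succ i ih => intro y; rw [pow_succ, Module.End.mul_apply, ih, h, ← pow_mul, pow_succ']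
    rw [aeval_monomial, eval_monomial, ← Algebra.smul_def, LinearMap.smul_apply, ofAdd_zsmul, map_zpow, h1,
      ← zpow_natCast, ← zpow_mul, mul_comm a]
    push_cast
    rfl

end Char

/-! ### the elements of `Y^σ` -/

section Frame

variable {D : ChevalleyDatum} {l : ℕ} {M : CoxeterMatrix (Fin l)} (hp : IsType D l M) {k : Type u} [Field k]
  {W : Type*} [Group W] (cs : CoxeterSystem M W) {p e : ℕ} [Fact p.Prime] [CharP k p] {σ : MulAut ↥(D.group k)}
  {g : (Fin l → ℤ) ≃+ (Fin l → ℤ)}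

/-- **Exponents of the twisted tori.** -/
theorem toral_exp [IsAlgClosed k] [Finite W] (hA : BpExc.TorAll.HAlg p k) (hk : LocFin k) (hσ : IsFrob p e σ)
    (F : Fr cs hp.isCartan (TT D k) (XX D l k) σ g) (hN : NSys M (TT D k) (nc hp k)) {x : ↥(D.group k)}
    (hx : σ x = x) {m : ℕ} (hm : m ≠ 0) (hmp : m.Coprime p) (hxm : x ^ m = 1) :
    ∃ w : W, ∀ P : ℤ[X], aeval ((theta hp cs w g).toIntLinearMap) P = 0 →
      (orderOf x : ℤ) ∣ P.eval ((p ^ e : ℕ) : ℤ) := by
  obtain ⟨z, t, n, w, h1, h2, h3, h4⟩ := exists_toral hp cs hA hk F hN hx hm hmp hxm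
  have hto : orderOf t = orderOf x := by
    rw [h1]
    exact ((MulAut.conj z).orderOf_eq t).symm
  refine ⟨w, fun P hP => ?_⟩
  have h5 := (tau_iff hp cs hk hσ F h3 h2).1 h4
  obtain ⟨χ, hχ⟩ := exists_hom (isMC_cX hp h2)
  have h6 : ∀ y, χ (Multiplicative.ofAdd ((theta hp cs w g).toIntLinearMap y)) =
      χ (Multiplicative.ofAdd y) ^ (p ^ e) := by
    intro y
    apply Units.ext
    rw [Units.val_pow_eq_pow_val, hχ, hχ]
    exact h5 y
  have h7 : ∀ y, χ (Multiplicative.ofAdd y) ^ (P.eval ((p ^ e : ℕ) : ℤ)) = 1 := by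
    intro y
    rw [← chi_aeval h6 P y, hP]
    exact map_one χ
  rw [← hto]
  obtain ⟨N, hN | hN⟩ := Int.eq_nat_or_neg (P.eval ((p ^ e : ℕ) : ℤ))
  all_goals
    have h8 : t ^ N = 1 := by
      refine cX_inj hp (pow_mem h2 N) (one_mem _) fun i => ?_
      have h9 := h7 (sr i)
      rw [hN] at h9
      have h10 : χ (Multiplicative.ofAdd (sr i)) ^ N = 1 := by
        simpa using h9
      have h11 := congrArg (Units.val) h10
      rw [Units.val_pow_eq_pow_val, hχ, Units.val_one] at h11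
      rw [cX_pow hp h2, cX_one, h11]
    rw [hN]
    have h12 := orderOf_dvd_of_pow_eq_one h8
    first
      | exact Int.natCast_dvd_natCast.2 h12
      | exact (Int.natCast_dvd_natCast.2 h12).neg_right

end Frame

/-! ### finite untwisted groups -/

section Fin

variable {D : ChevalleyDatum} {l : ℕ} {M : CoxeterMatrix (Fin l)} (hp : IsType D l M)

/-- **Untwisted groups.** -/
theorem exp_untw {W : Type*} [Group W] [Finite W] (cs : CoxeterSystem M W) {F : Type u} [Field F] [Fintype F]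
    {r : ℕ} [Fact r.Prime] [hFr : CharP F r] {x : ↥(D.group F)} (hx : (orderOf x).Coprime r) :
    ∃ w : W, ∀ P : ℤ[X], aeval (rep cs hp.isCartan w) P = 0 →
      (orderOf x : ℤ) ∣ P.eval (Fintype.card F : ℤ) := by
  obtain ⟨p, e, hpF, hpc, hpk, he, hq, hk⟩ := exists_closure (F := F) rfl
  have hpr : p = r := CharP.eq F hpc hFr
  subst hpr
  let k := AlgebraicClosure F
  have hA : BpExc.TorAll.HAlg p k := H944.RootVals.hAlg_closure p F
  have hN : NSys M (TT D k) (nc hp k) := nsys_of_locFin hp cs hk p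
  set f := algebraMap F k with hf
  set x' : ↥(D.group k) := emb hp.inList f x with hx'
  have hxo : orderOf x' = orderOf x := orderOf_injective (emb hp.inList f) (emb_injective hp.inList f) x
  have hx0 : orderOf x ≠ 0 := (orderOf_pos x).ne'
  obtain ⟨w, hw⟩ := toral_exp hp cs hA hk isFrob_phi (fr_phi hp cs) hN (x := x') (σ := phi D k p e)
    (phi_emb hp f hq x) hx0 hx (by rw [← hxo, pow_orderOf_eq_one])
  refine ⟨w, fun P hP => ?_⟩
  have h1 := hw P (by
    rw [← hP]
    rfl)
  rw [hxo, ← hq] at h1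
  exact h1

include hp in
/-- **Orders of the semisimple elements of the untwisted groups.** -/
theorem ord_untw {W : Type*} [Group W] [Finite W] (cs : CoxeterSystem M W) {F : Type u} [Field F] [Fintype F]
    {r : ℕ} [Fact r.Prime] [hFr : CharP F r] {x : ↥(D.group F)} (hx : (orderOf x).Coprime r) :
    ∃ S : Finset ℕ, (∀ d ∈ S, 0 < d) ∧ ∑ d ∈ S, Nat.totient d ≤ l ∧
      (orderOf x : ℤ) ∣ ∏ d ∈ S, (cyclotomic d ℤ).eval (Fintype.card F : ℤ) := by
  obtain ⟨w, hw⟩ := exp_untw hp cs hx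
  set A : Matrix (Fin l) (Fin l) ℤ := LinearMap.toMatrixAlgEquiv' (R := ℤ) (n := Fin l) (rep cs hp.isCartan w) with hAdef
  have hAn : A ^ (Nat.card W) = 1 := by
    rw [hAdef, ← map_pow, ← map_pow, pow_card_eq_one', map_one, map_one]
  obtain ⟨S, h1, h2, h3⟩ := exists_set Nat.card_pos hAn
  refine ⟨S, h1, h2, ?_⟩
  rw [← eval_prod]
  apply hw
  have h4 : (LinearMap.toMatrixAlgEquiv' (R := ℤ) (n := Fin l)) (aeval (rep cs hp.isCartan w)
      (∏ d ∈ S, cyclotomic d ℤ)) = 0 := by
    rw [← h3, hAdef]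
    exact (Polynomial.aeval_algHom_apply (LinearMap.toMatrixAlgEquiv' (R := ℤ) (n := Fin l)).toAlgHom _ _).symm
  exact (map_eq_zero_iff _ (LinearMap.toMatrixAlgEquiv' (R := ℤ) (n := Fin l)).injective).1 h4

end Fin

end Cfsg.Agent.H92.TorExp
end
end
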